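import Cfsg.Agent.Lib.Std.Sz5
import Cfsg.Agent.Lib.StdO.So3

/-! Standard subgroups `L₃(4)` with odd centre, part 4: the Sylow 2-subgroup of the centraliser. -/

set_option autoImplicit false
set_option maxRecDepth 100000
set_option synthInstance.maxSize 100000
set_option linter.unusedSectionVars false

namespace H10.So
open H10.Sz
open H69 Subgroup Cfsg
open H30 (F4)
open H10.HeS (T2)

/-- the frame with a Sylow 2-subgroup of the centraliser -/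
structure Hy (G : Type*) [Group G] extends St G where
  Φ : F4 → Prop
  hΦ : (∀ c, Φ c) ∨ ∀ c, Φ c ↔ c = 0 ∨ c = 1
  r : F4 → G
  R : Subgroup G
  memR : ∀ x, x ∈ R ↔ ∃ c, Φ c ∧ x = r c
  sylR : IsSylowIn 2 R 𝐂(L)
  r_mul : ∀ c c', Φ c → Φ c' → r c * r c' = r (c + c')
  r_one : ∀ c, Φ c → r c = 1 → c = 0
  g : G
  g_T : g ∈ 𝐍(toPm.T)
  g_r : ∀ c, Φ c → ∃ c', Φ c' ∧ g * r c' * g⁻¹ = r c * p 0 0 c
  g_r' : ∀ c', Φ c' → ∃ c, Φ c ∧ g * r c' * g⁻¹ = r c * p 0 0 c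

variable {G : Type*} [Group G] [Finite G]

namespace St
variable {Y Y' : St G}

theorem step1 [IsSimpleGroup G] (Y : St G) :
    ∃ Y', Y.Cj Y' ∧ Y.L ≠ Y'.L ∧ ∃ s ∈ 𝐂(Y'.L), s ∈ 𝐍(Y.L) ∧ s * s = 1 ∧ s ≠ 1 := by
  haveI := Fact.mk Nat.prime_two
  by_contra h
  push Not at h
  obtain ⟨k, hk, k2, k1⟩ := Y.even_K
  have e : normalClosure (𝐂(Y.L) : Set G) = ⊤ := normalClosure_normal.eq_bot_or_eq_top.resolve_left
    fun e => k1 (mem_bot.1 (e ▸ subset_normalClosure hk))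
  rcases Cfsg.Agent.S1911.result 𝐂(Y.L) Y.hL.2.1 (fun g hg => by
    rw [← Y.hL.2.2.2] at hg ⊢
    rw [← Nat.not_even_iff_odd, even_iff_two_dvd]
    intro h2
    obtain ⟨t, ht⟩ := exists_prime_orderOf_dvd_card' 2 h2
    have := h _ ((Cj.refl Y).cj g) (fun e => hg (cj_eq_self_iff.1 e.symm)) t ((cj_centralizer ..).le t.2.1) t.2.2
      (congrArg Subtype.val (show t * t = 1 by rw [← sq, ← ht, pow_orderOf_eq_one]))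
    rw [Subtype.ext (a1 := t) (a2 := 1) this, orderOf_one] at ht
    omega) with q | q
  · rcases q.eq_bot_or_eq_top with q | q
    · exact k1 (mem_bot.1 (q ▸ hk))
    · exact one_ne_zero (Y.pK (x := 0) (a := 0) (e := 1) (q ▸ mem_top _)).2.2
  · obtain ⟨g, q⟩ := conj_of_se q (a := ⟨k, e ▸ mem_top _⟩) (b := ⟨Y.p 0 0 1, e ▸ mem_top _⟩) (Subtype.ext k2)
      (fun e => k1 (congrArg Subtype.val e)) (Subtype.ext (Y.z_sq 1))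
      fun e => Y.z_ne one_ne_zero (congrArg Subtype.val e)
    exact Y.notD 1 ⟨g, k, hk, k2, k1, (congrArg Subtype.val q).symm⟩

theorem step2 (c : Y.Cj Y') (ne : Y.L ≠ Y'.L) {s : G} (hs : s ∈ 𝐂(Y'.L)) (hN : s ∈ 𝐍(Y.L)) (s2 : s * s = 1)
    (s1 : s ≠ 1) : ∃ i, Y.D i ∧ Y.In i ∧ i ∉ 𝐂(Y.L) := by
  have t := T2.of_sq s2
  have si := inv_eq_of_mul_eq_one_right s2
  obtain ⟨Y1, e1, hT⟩ := norm2' t.pg (zpowers_le.2 hN)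
  obtain ⟨σ, f, l, m, q⟩ := Pm.act_of_norm (hT (mem_zpowers s))
  have key : ∀ e, e ≠ 0 → (∃ τ, τ * s * τ⁻¹ = s * Y1.p 0 0 e) → Y'.In (Y1.p 0 0 e) →
      ∃ i, Y.D i ∧ Y.In i ∧ i ∉ 𝐂(Y.L) := by
    rintro u u1 ⟨τ, e⟩ hI
    obtain ⟨g, hg⟩ := id c
    have d : Y.D (s * Y1.p 0 0 u) := e ▸ (c.D hs s2 s1).conj τ
    obtain ⟨a, ha, b, hb, e'⟩ := (In.of_K hs).mul hI
    refine ⟨g⁻¹ * (s * Y1.p 0 0 u) * g, by simpa using d.conj g⁻¹, ⟨g⁻¹ * a * g, mem_cj.1 (hg ▸ ha), g⁻¹ * b * g,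
      mem_cj.1 (by rwa [cj_centralizer, ← hg]), by rw [e']; group⟩, fun k => ?_⟩
    exact notD_L (e1 ▸ Y1.p_L ..) (c.D ((mul_mem_cancel_left hs).1
      (by rw [hg, ← cj_centralizer]; exact mem_cj.2 k)) (Y1.z_sq u) (Y1.z_ne u1))
  have cs : ∀ y, s * y * s⁻¹ = y → y ∈ 𝐍(Y'.L) := fun y k => cN hs t s1 (mul_inv_eq_iff_eq_mul.1 k).symm
  have ss : ∀ y, s * (s * y * s⁻¹) * s⁻¹ = y := fun y => by
    rw [si, ← mul_assoc, ← mul_assoc, s2, one_mul, mul_assoc, s2, mul_one]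
  obtain ⟨-, -, q1, q2⟩ := (q.mul q).uniq (show Y1.Act _ false false 1 1 by rw [s2]; exact .one)
  have cs' : ∀ τ, τ⁻¹ * s * τ⁻¹⁻¹ = s * ((s * τ * s⁻¹)⁻¹ * τ) := fun τ => by rw [si]; simp [mul_assoc, si, ← mul_assoc s s, s2]
  cases f
  · cases σ
    · exact ⟨s, c.D hs s2 s1, by
        have := (Ty.of_act (e1 ▸ hN) q).two t
        unfold In at this ⊢
        rwa [e1] at this, fun k => ne ((Cj.refl Y).ti c k hs t s1)⟩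
    have lm : l * m = 1 := by simpa [th, mul_comm] using q1
    have qz : ∀ e, s * Y1.p 0 0 e * s⁻¹ = Y1.p 0 0 e := fun e => by simpa [lm, th] using q.z e
    have tv : ∀ x, ∃ e, s * Y1.p x 0 0 * s⁻¹ = Y1.p 0 (l * x) e := fun x => by simpa [c1, c2, th] using q.t x 0 0
    have tz : ∀ e, ∃ τ ∈ Y1.T, τ * s * τ⁻¹ = s * Y1.p 0 0 e := fun e => by
      obtain ⟨x, hx⟩ : ∃ x, l * x * x = e := by have := q.l0; clear * - this; decide +revert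
      obtain ⟨b, k⟩ := tv x
      refine ⟨(Y1.p x 0 0 * Y1.p 0 (l * x) b)⁻¹, inv_mem (mul_mem (Y1.p_T ..) (Y1.p_T ..)), ?_⟩
      rw [cs', ← conj_mul, k, ← k, ss, k, Y1.mul, Y1.mul, Y1.p_inv, Y1.mul, ← hx]
      congr 2 <;> (clear * -; decide +revert)
    obtain ⟨η, hη, x, a, e, k⟩ : ∃ η, Y1.Act η false false ϖ ϖ ∧ η * s * η⁻¹ * s⁻¹ ∈ Y1.T := by
      have hL : Y1.h * s * Y1.h⁻¹ * s⁻¹ ∈ Y1.L := by
        simpa [mul_assoc] using mul_mem Y1.h_L (Y1.cL (e1 ▸ hN) (inv_mem Y1.h_L))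
      obtain ⟨x, a, e, c, hc, k⟩ := Y1.cenK' hL one_ne_zero (by
        have a1 : ∀ e, Commute s (Y1.p 0 0 e) := fun e => mul_inv_eq_iff_eq_mul.1 (qz e)
        have a2 : Commute (Y1.h * s * Y1.h⁻¹) (Y1.p 0 0 1) := by
          have := (a1 ϖ).conj Y1.h
          rwa [Y1.h_z] at this
        exact (a2.mul_left (a1 1).inv_left).eq)
      have cL : c ∈ Y1.L := (mul_mem_cancel_left (Y1.p_L ..)).1 (k ▸ hL)
      have sc := (Y1.uq (Y1.cL (e1 ▸ hN) (Y1.p_L x a e)) (Y1.cK (e1 ▸ hN) hc) (inv_mem (Y1.p_L x a e)) (inv_mem hc) (by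
        rw [conj_mul, ← mul_inv_rev, ← Y1.pk hc, ← k, si]; simp [mul_assoc, si, ← mul_assoc s s, s2])
        ((Y1.t2 ..).conj s) (T2.inv (Y1.t2 ..))).2
      refine ⟨Y1.h * c, Y1.act_h.mul (Y1.act_K hc), x, a, e, ?_⟩
      rw [show Y1.h * c * s * (Y1.h * c)⁻¹ * s⁻¹ = Y1.h * (c * (s * c * s⁻¹)⁻¹) * Y1.h⁻¹ * (Y1.h * s * Y1.h⁻¹ * s⁻¹) by group,
        sc, inv_inv, Y1.kc (mul_mem hc hc) Y1.h_L, k, Y1.pk hc, ← mul_assoc, Y1.z3 c cL hc, one_mul]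
    have k2 : s * Y1.p x a e * s⁻¹ = (Y1.p x a e)⁻¹ := by rw [← k, si]; simp [mul_assoc, si, ← mul_assoc s s, s2]
    obtain ⟨_, k3⟩ := q.t x a e
    obtain rfl : a = l * x := by simpa [c2, th] using (Y1.p_inj ((Y1.p_inv ..).symm.trans (k2.symm.trans k3))).2.1
    obtain ⟨b, k4⟩ := tv x
    obtain ⟨τ, hτ, k5⟩ := tz (b + e)
    have k6 : (Y1.p x 0 0 * τ)⁻¹ * η * s * ((Y1.p x 0 0 * τ)⁻¹ * η)⁻¹ = s := by
      have : Y1.p x 0 0 * τ * s * (Y1.p x 0 0 * τ)⁻¹ = η * s * η⁻¹ := by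
        rw [mul_inv_eq_iff_eq_mul.1 k, show Y1.p x 0 0 * τ * s * (Y1.p x 0 0 * τ)⁻¹ =
          Y1.p x 0 0 * (τ * s * τ⁻¹) * (Y1.p x 0 0)⁻¹ * s⁻¹ * s by group, k5, Y1.v_inv,
          show Y1.p x 0 0 * (s * Y1.p 0 0 (b + e)) * Y1.p x 0 0 * s⁻¹ = Y1.p x 0 0 * (s * Y1.p 0 0 (b + e) * s⁻¹) *
          (s * Y1.p x 0 0 * s⁻¹) by group, qz, k4, Y1.mul, Y1.mul]
        congr 2 <;> (clear * -; decide +revert)
      rw [← cji (Y1.p x 0 0 * τ), this]; group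
    have k7 : (Y1.p x 0 0 * τ)⁻¹ * η * Y1.p 0 0 ω * ((Y1.p x 0 0 * τ)⁻¹ * η)⁻¹ * (Y1.p 0 0 ω)⁻¹ =
        Y1.p 0 0 1 := by
      have := (Pm.Act.of_T (inv_mem (mul_mem (Y1.p_T x 0 0) hτ))).mul hη |>.z ω
      rw [this, Y1.z_inv, Y1.z_mul]; rfl
    exact key 1 one_ne_zero ((tz 1).imp fun _ k => k.2) (k7 ▸ In.cm (cN hs t s1 (mul_inv_eq_iff_eq_mul.1 k6))
      (cs _ (qz _)) (k7 ▸ Y1.t2 ..))
  obtain ⟨x, a, h1, h2, h3⟩ : ∃ x a, c1 σ true l m x a = x ∧ c2 σ true l m x a = a ∧ a * x ≠ 0 := by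
    clear * - q1 q2; decide +revert
  obtain ⟨b, k⟩ := q.t x a 0
  rw [h1, h2] at k
  have kz : ∀ e, s * Y1.p x a e * s⁻¹ = Y1.p x a (b + l * m * (e * e)) := fun e => by
    rw [← Y1.mul_z, ← k, ← show th true e = e * e from rfl, ← q.z, conj_mul, Y1.mul_z, zero_add]
  have k1 := ss (Y1.p x a 0)
  rw [k, kz, Y1.p_eq] at k1
  have l0 := mul_ne_zero q.l0 q.m0
  obtain ⟨e, he⟩ : ∃ e, b + l * m * (e * e) = e := by
    have := k1.2.2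
    generalize l * m = u at *
    clear * - this l0; decide +revert
  have k2 := kz e
  rw [he] at k2
  have k3 : s * Y1.p 0 0 (a * x) * s⁻¹ = Y1.p 0 0 (a * x) := by rw [← Y1.p_sq x a e, ← conj_mul, k2]
  obtain ⟨e', he'⟩ : ∃ e', l * m * th true e' + e' = a * x := by
    have := (Y1.p_inj ((q.z _).symm.trans k3)).2.2
    generalize l * m = u, a * x = v at *
    clear * - this l0; decide +revert
  exact key _ h3 ⟨(Y1.p 0 0 e')⁻¹, by rw [cs', q.z, Y1.z_inv, Y1.z_mul, he']⟩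
    (Y1.p_sq x a e ▸ In.sq (cs _ k2) (Y1.t2 ..))

theorem TK (c : Y.Cj Y') {l : G} (hl : l ∈ Y.L) (t : T2 l) (hk : l ∈ 𝐂(Y'.L)) : l = 1 :=
  t.eq_one (K := Y.L ⊓ 𝐂(Y'.L)) ⟨hl, hk⟩ fun u hu u2 => by_contra fun u1 => notD_L hu.1 (c.D hu.2 u2 u1)

theorem emb (c : Y.Cj Y') {k : G} (hk : k ∈ 𝐂(Y.L)) (k2 : k * k = 1) {e : F4} (he : e ≠ 0)
    (hs : k * Y.p 0 0 e ∈ 𝐂(Y'.L)) {C : Subgroup G} (hC : IsPGroup 2 C) (h1 : C ≤ 𝐂(Y.L))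
    (h2 : ∀ y ∈ C, y * k = k * y) :
    (∀ x a b, Y'.In (Y.p x a b)) ∧ ∀ y ∈ C, ∃ b, y * Y.p 0 0 b ∈ 𝐂(Y'.L) := by
  have t : T2 (k * Y.p 0 0 e) := (T2.of_sq k2).mul (Y.t2 ..) (Y.pk hk ..).symm
  have s1 : k * Y.p 0 0 e ≠ 1 := fun q => he (Y.pK (x := 0) (a := 0) (by
    rw [eq_inv_of_mul_eq_one_right q]; exact inv_mem hk)).2.2
  have pK : ∀ x a b, Y.p x a b ∈ 𝐂(Y'.L) → x = 0 ∧ a = 0 ∧ b = 0 := fun x a b q =>
    Y.inj _ _ _ (TK c (Y.p_L ..) (Y.t2 ..) q)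
  obtain ⟨Y1, e1, -, hV, hW⟩ := rank2 (Y := Y') (fun u => Y.p u.1 0 u.2) (fun u => Y.p 0 u.1 u.2)
    (fun _ _ => (Y.v_mul ..).symm) (fun _ _ => (Y.w_mul ..).symm) (fun _ => Y.v_sq ..) (fun _ => Y.w_sq ..)
    (isP_sup hC h1) (sup_le (fun y hy => cN hs t s1 (by rw [← mul_assoc, h2 y hy, mul_assoc, ← Y.pk (h1 hy), mul_assoc]))
      (by rintro _ ⟨x, a, b, rfl⟩; exact cN hs t s1 (by rw [← mul_assoc, Y.pk hk, mul_assoc, ← Y.z_comm, mul_assoc])))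
    (fun _ => mem_sup_right (Y.p_T ..)) (fun _ => mem_sup_right (Y.p_T ..))
    (fun u q => Prod.ext (pK _ _ _ q).1 (pK _ _ _ q).2.2) (fun u q => Prod.ext (pK _ _ _ q).2.1 (pK _ _ _ q).2.2)
    ⟨(1, 0), (1, 0), fun q => by rw [cm_p] at q; exact absurd (pK _ _ _ q).2.2 (by decide)⟩
  unfold In
  rw [← e1] at hs pK ⊢
  choose x1 b1 k1 hk1 q1 using hV
  choose x2 b2 k2 hk2 q2 using hW
  have sV := Finite.surjective_of_injective (f := fun u => (x1 u, b1 u)) fun u v q => by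
    obtain ⟨a1, a2⟩ := Prod.ext_iff.1 q
    simp only at a1 a2
    have := pK (u.1 + v.1) 0 (u.2 + v.2) (by
      rw [← Y.v_mul, ← Y.v_inv, q1 u, q1 v, a1, a2]; simpa [mul_assoc] using mul_mem (inv_mem (hk1 u)) (hk1 v))
    exact Prod.ext (ae.1 this.1) (ae.1 this.2.2)
  have sW := Finite.surjective_of_injective (f := fun u => (x2 u, b2 u)) fun u v q => by
    obtain ⟨a1, a2⟩ := Prod.ext_iff.1 q
    simp only at a1 a2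
    have := pK 0 (u.1 + v.1) (u.2 + v.2) (by
      rw [← Y.w_mul, ← Y.w_inv, q2 u, q2 v, a1, a2]; simpa [mul_assoc] using mul_mem (inv_mem (hk2 u)) (hk2 v))
    exact Prod.ext (ae.1 this.2.1) (ae.1 this.2.2)
  refine ⟨fun x a b => ?_, fun y hy => ?_⟩
  · rw [show Y.p x a b = Y.p x 0 0 * Y.p 0 a b by simp [Y.mul]]
    exact In.mul (Y := Y1) ⟨_, Y1.p_L .., _, hk1 _, q1 (x, 0)⟩ ⟨_, Y1.p_L .., _, hk2 _, q2 (a, b)⟩
  have yN : y ∈ 𝐍(Y1.L) := cN hs t s1 (by rw [← mul_assoc, h2 y hy, mul_assoc, ← Y.pk (h1 hy), mul_assoc])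
  obtain ⟨b, k', hk', rfl⟩ := cT yN fun x a b => by
    obtain ⟨u, qu⟩ := sV (x, 0)
    obtain ⟨v, qv⟩ := sW (a, b)
    have f1 := (Y1.fix yN (Y1.p_L ..) (hk1 u) (q1 u ▸ conj_eq_of_mem_centralizer (h1 hy) (Y.p_L ..))).1
    have f2 := (Y1.fix yN (Y1.p_L ..) (hk2 v) (q2 v ▸ conj_eq_of_mem_centralizer (h1 hy) (Y.p_L ..))).1
    simp only [Prod.mk.injEq] at qu qv
    rw [qu.1, qu.2] at f1
    rw [qv.1, qv.2] at f2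
    rw [show Y1.p x a b = Y1.p x 0 0 * Y1.p 0 a b by simp [Y1.mul], ← conj_mul, f1, f2]
  obtain ⟨u, qu⟩ := sV (1, 0)
  obtain ⟨v, qv⟩ := sW (b, 0)
  simp only [Prod.mk.injEq] at qu qv
  have := cm_p Y.toPm u.1 0 u.2 0 v.1 v.2
  rw [q1 u, q2 v, cm_iff (Y1.p_L ..) (hk1 u) (Y1.p_L ..) (hk2 v), cm_p, qu.1, qv.1] at this
  refine ⟨0 * 0 + v.1 * u.1, ?_⟩
  rw [← this, mul_assoc, ← mul_assoc k', ← Y1.pk hk', mul_assoc, ← mul_assoc, Y1.z_mul]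
  simpa [aa, Y1.p_zero] using mul_mem hk' (cmK (hk1 u) (hk2 v))

variable (Y) in
theorem dec2K {l k : G} (hl : l ∈ Y.L) (hk : k ∈ 𝐂(Y.L)) (t : T2 (l * k)) :
    ∃ l' ∈ Y.L, ∃ k' ∈ 𝐂(Y.L), T2 l' ∧ T2 k' ∧ l * k = l' * k' := by
  obtain ⟨n, e⟩ := t
  obtain ⟨j, hj⟩ := exists_pow_eq_self_of_coprime (x := l * k) (n := 3) (Nat.Coprime.coprime_dvd_right
    (orderOf_dvd_of_pow_eq_one e) (Nat.Coprime.pow_right n (by decide)))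
  have c : Commute l k := hk l hl
  rw [c.mul_pow] at e
  have a : (l ^ 2 ^ n) ^ 3 = 1 := by
    rw [pow_three, ← mul_assoc, Y.z3 _ (pow_mem hl _) (eq_inv_of_mul_eq_one_left e ▸ inv_mem (pow_mem hk _))]
  have b : (k ^ 2 ^ n) ^ 3 = 1 := by rw [eq_inv_of_mul_eq_one_right e, inv_pow, a, inv_one]
  have d : ∀ x : G, (x ^ 2 ^ n) ^ 3 = 1 → T2 ((x ^ 3) ^ j) := fun x h =>
    ⟨n, by rw [← pow_mul, mul_comm, pow_mul, ← pow_mul x, mul_comm, pow_mul, h, one_pow]⟩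
  exact ⟨_, pow_mem (pow_mem hl 3) j, _, pow_mem (pow_mem hk 3) j, d l a, d k b, by
    rw [← ((c.pow_pow 3 3).mul_pow j), ← c.mul_pow, hj]⟩

theorem In.two {i : G} (h : Y.In i) (t : T2 i) : ∃ l ∈ Y.L, ∃ k ∈ 𝐂(Y.L), T2 l ∧ T2 k ∧ i = l * k := by
  obtain ⟨l, hl, k, hk, rfl⟩ := h
  exact Y.dec2K hl hk t

theorem sylLK {R : Subgroup G} (hR : IsSylowIn 2 R 𝐂(Y.L)) : IsSylowIn 2 (R ⊔ Y.T) (Y.L ⊔ 𝐂(Y.L)) := by
  refine ⟨sup_le (hR.le.trans le_sup_right) (Y.T_L.trans le_sup_left), isP_sup hR.isP hR.le, fun Q h1 h2 h3 =>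
    le_antisymm (fun y hy => ?_) h1⟩
  have c : ∀ {l k l' k' : G}, k ∈ 𝐂(Y.L) → l' ∈ Y.L → l * k * (l' * k') = l * l' * (k * k') := fun {l k l' k'} hk hl => by
    rw [mul_assoc, ← mul_assoc k, ← hk _ hl]; group
  have ci : ∀ {l k : G}, k ∈ 𝐂(Y.L) → l ∈ Y.L → (l * k)⁻¹ = l⁻¹ * k⁻¹ := fun hk hl => by
    rw [hk _ hl, mul_inv_rev]
  have t : ∀ {l k : G}, l ∈ Y.L → k ∈ 𝐂(Y.L) → l * k ∈ Q → ∃ n, l ^ 2 ^ n ∈ 𝐂(Y.L) ∧ k ^ 2 ^ n ∈ Y.L :=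
    fun {l k} hl hk h => by
    obtain ⟨n, e⟩ := T2.of_mem h3 h
    rw [(show Commute l k from hk l hl).mul_pow] at e
    exact ⟨n, eq_inv_of_mul_eq_one_left e ▸ inv_mem (pow_mem hk _), eq_inv_of_mul_eq_one_right e ▸ inv_mem (pow_mem hl _)⟩
  let A : Subgroup G := ⟨⟨⟨{l | l ∈ Y.L ∧ ∃ k ∈ 𝐂(Y.L), l * k ∈ Q}, fun ⟨a, k, b, d⟩ ⟨a', k', b', d'⟩ =>
    ⟨mul_mem a a', _, mul_mem b b', c b a' ▸ mul_mem d d'⟩⟩, one_mem _, 1, one_mem _, by simp⟩,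
    fun ⟨a, k, b, d⟩ => ⟨inv_mem a, _, inv_mem b, ci b a ▸ inv_mem d⟩⟩
  let B : Subgroup G := ⟨⟨⟨{k | k ∈ 𝐂(Y.L) ∧ ∃ l ∈ Y.L, l * k ∈ Q}, fun ⟨a, k, b, d⟩ ⟨a', k', b', d'⟩ =>
    ⟨mul_mem a a', _, mul_mem b b', c a b' ▸ mul_mem d d'⟩⟩, one_mem _, 1, one_mem _, by simp⟩,
    fun ⟨a, k, b, d⟩ => ⟨inv_mem a, _, inv_mem b, ci a b ▸ inv_mem d⟩⟩
  let A2 : Subgroup G := ⟨⟨⟨{l | l ∈ A ∧ T2 l}, fun a b => ⟨mul_mem a.1 b.1, t2_mul (Γ := A) (fun _ ⟨a, _, b, d⟩ =>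
    (t a b d).imp fun _ e y hy => e.1 y hy.1) a.1 b.1 a.2 b.2⟩⟩, one_mem _, .of_sq (one_mul _)⟩,
    fun a => ⟨inv_mem a.1, T2.inv a.2⟩⟩
  let B2 : Subgroup G := ⟨⟨⟨{l | l ∈ B ∧ T2 l}, fun a b => ⟨mul_mem a.1 b.1, t2_mul (Γ := B) (fun _ ⟨a, _, b, d⟩ =>
    (t b a d).imp fun _ e y hy => (hy.1 _ e.2).symm) a.1 b.1 a.2 b.2⟩⟩, one_mem _, .of_sq (one_mul _)⟩,
    fun a => ⟨inv_mem a.1, T2.inv a.2⟩⟩
  have hA := Y.syl.max A2 (fun y hy => ⟨⟨Y.T_L hy, 1, one_mem _, by simpa using h1 (mem_sup_right hy)⟩,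
    .of_mem Y.isP_T hy⟩) (fun _ h => h.1.1) (isPGroup_iff_mem.2 fun _ h => h.2)
  have hB := hR.max B2 (fun y hy => ⟨⟨hR.le hy, 1, one_mem _, by simpa using h1 (mem_sup_left hy)⟩,
    .of_mem hR.isP hy⟩) (fun _ h => h.1.1) (isPGroup_iff_mem.2 fun _ h => h.2)
  obtain ⟨l, hl, k, hk, rfl⟩ := (mem_sup_of_le_normalizer_right (normalizer_le_normalizer_centralizer _ |>.trans'
    le_normalizer)).1 (h2 hy)
  obtain ⟨l', hl', k', hk', a, b, e⟩ := Y.dec2K hl hk (.of_mem h3 hy)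
  rw [e] at hy ⊢
  exact mul_mem (mem_sup_right (hA.le ⟨⟨hl', k', hk', hy⟩, a⟩)) (mem_sup_left (hB.le ⟨⟨hk', l', hl', hy⟩, b⟩))

theorem exists_hy {i : G} (h1 : Y.D i) (h2 : Y.In i) (h3 : i ∉ 𝐂(Y.L)) : ∃ X : Hy G, X.toSt = Y := by
  haveI := Fact.mk Nat.prime_two
  obtain ⟨l, hl, k0, hk0, tl, -, rfl⟩ := h2.two (.of_sq h1.sq)
  obtain ⟨l2, k02⟩ := Y.sq_dec hl hk0 h1.sq tl
  obtain ⟨j, hj, rfl⟩ := Y.cls l hl l2 (by rintro rfl; exact h3 (by simpa using hk0))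
  have d : Y.D (k0 * Y.p 0 0 1) := D.of_conj (y := j) (by rwa [← conj_mul, Y.kc hk0 hj, ← hk0 _ hl])
  obtain ⟨Y', c, hs⟩ := d.ex
  obtain ⟨R, hR, hkR⟩ := exists_isSylowIn_le (T2.of_sq k02).pg (zpowers_le.2 hk0)
  have k1 : k0 ≠ 1 := by rintro rfl; exact Y.notD 1 (by simpa using d)
  have ne : ∀ y ∈ 𝐂(Y.L), T2 y → y ∈ 𝐂(Y'.L) → y = 1 := fun y a b a' => by_contra fun q =>
    one_ne_zero (Y.pK (x := 0) (a := 0) (e := 1) ((mul_mem_cancel_left hk0).1 ((Cj.refl Y).ti c a a' b q ▸ hs))).2.2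
  obtain ⟨r0, h0, r02, r01⟩ : ∃ r ∈ R ⊓ 𝐂(R), r * r = 1 ∧ r ≠ 1 := by
    obtain ⟨r, a, b⟩ := exists_orderOf_eq_prime (hR.isP.to_inf_left (K := 𝐂(R))) (center_ne_bot hR.isP
      fun e => k1 (mem_bot.1 (e ▸ hkR (mem_zpowers _))))
    exact ⟨r, a, by rw [← sq, ← b, pow_orderOf_eq_one], fun e => by simp [e] at b⟩
  obtain ⟨b0, q0⟩ := (emb c hk0 k02 one_ne_zero hs (T2.of_sq r02).pg (zpowers_le.2 (hR.le h0.1)) fun y hy =>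
    (zpowers_le.2 (mem_centralizer_singleton_iff.2 (h0.2 _ (hkR (mem_zpowers _))).symm) hy : _ ∈ centralizer _)
      k0 rfl |>.symm).2 r0 (mem_zpowers _)
  obtain ⟨hI, hθ⟩ := emb c (hR.le h0.1) r02 (e := b0) (by
    rintro rfl; exact r01 (ne _ (hR.le h0.1) (.of_sq r02) (by simpa [Y.p_zero] using q0))) q0 hR.isP hR.le h0.2
  have uq : ∀ y y' b, y ∈ R → y' ∈ R → y * Y.p 0 0 b ∈ 𝐂(Y'.L) → y' * Y.p 0 0 b ∈ 𝐂(Y'.L) → y = y' :=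
    fun y y' b a a' q q' => mul_inv_eq_one.1 (ne _ (hR.le (mul_mem a (inv_mem a')))
      (.of_mem hR.isP (mul_mem a (inv_mem a'))) (by simpa [mul_assoc] using mul_mem q (inv_mem q')))
  have ad : ∀ y y' b b', y' ∈ R → y * Y.p 0 0 b ∈ 𝐂(Y'.L) → y' * Y.p 0 0 b' ∈ 𝐂(Y'.L) →
      y * y' * Y.p 0 0 (b + b') ∈ 𝐂(Y'.L) := fun y y' b b' a q q' => by
    have := mul_mem q q'
    rwa [mul_assoc, ← mul_assoc (Y.p ..), Y.pk (hR.le a), mul_assoc, Y.z_mul, ← mul_assoc] at this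
  have ex : ∀ b, ∃ y, (∃ y ∈ R, y * Y.p 0 0 b ∈ 𝐂(Y'.L)) → y ∈ R ∧ y * Y.p 0 0 b ∈ 𝐂(Y'.L) := fun b => by
    by_cases q : ∃ y ∈ R, y * Y.p 0 0 b ∈ 𝐂(Y'.L)
    exacts [q.imp fun _ q _ => q, ⟨1, fun k => absurd k q⟩]
  choose r hr using ex
  set Φ : F4 → Prop := fun b => ∃ y ∈ R, y * Y.p 0 0 b ∈ 𝐂(Y'.L)
  have Φa : ∀ b b', Φ b → Φ b' → Φ (b + b') := fun b b' ⟨y, a, q⟩ ⟨y', a', q'⟩ =>
    ⟨_, mul_mem a a', ad _ _ _ _ a' q q'⟩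
  have Φ0 : Φ 0 := ⟨1, one_mem _, by simp [Y.p_zero]⟩
  have Φ1 : Φ 1 := ⟨k0, hkR (mem_zpowers _), hs⟩
  have mR : ∀ x, x ∈ R ↔ ∃ c, Φ c ∧ x = r c := fun x => ⟨fun a => let ⟨b, q⟩ := hθ x a;
    ⟨b, ⟨x, a, q⟩, uq _ _ b a (hr b ⟨x, a, q⟩).1 q (hr b ⟨x, a, q⟩).2⟩, by rintro ⟨c, a, rfl⟩; exact (hr c a).1⟩
  have mJ : ∀ y ∈ R ⊔ Y.T, ∃ c, Φ c ∧ ∃ x a e, y = r c * Y.p x a e := fun y hy => by
    obtain ⟨a, ha, _, ⟨x, b, e, rfl⟩, rfl⟩ := (mem_sup_of_le_normalizer_right (le_normalizer_of_le_centralizer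
      (hR.le.trans (centralizer_anti Y.T_L)))).1 hy
    obtain ⟨c, hc, rfl⟩ := (mR a).1 ha
    exact ⟨c, hc, _, _, _, rfl⟩
  obtain ⟨g0, hg⟩ := id c
  have S1 := (sylLK hR).cj g0
  rw [cj_sup Y.L, cj_centralizer, ← hg] at S1
  have mI : ∀ y, Y'.In y → y ∈ Y'.L ⊔ 𝐂(Y'.L) := by
    rintro _ ⟨a, ha, b, hb, rfl⟩; exact mul_mem (mem_sup_left ha) (mem_sup_right hb)
  obtain ⟨y, hy, ey⟩ := S1.conj (S1.of_card_le (isP_sup hR.isP hR.le) (sup_le (fun y hy => by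
    obtain ⟨b, q⟩ := hθ y hy
    simpa [mul_assoc, Y.z_sq] using mul_mem (mem_sup_right q : _ ∈ Y'.L ⊔ _) (mI _ (hI 0 0 b)))
      (by rintro _ ⟨x, a, e, rfl⟩; exact mI _ (hI x a e))) (card_cj ..).le)
  rw [cj_cj, cj_eq_self_iff] at ey
  have eL : (Y.cj (y * g0)).L = Y'.L := by
    show _ ^ᶜ _ = _
    rw [← cj_cj, ← hg, cj_eq_self_iff]
    exact sup_le le_normalizer (centralizer_le_normalizer _) hy
  have Drt : ∀ c, Φ c → c ≠ 0 → ∀ u ∈ Y.L, u * u = 1 → Y.D (r c * u) := fun b hb b0 u hu u2 => by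
    have rK := hR.le (hr b hb).1
    have r2 : r b * r b = 1 := ne _ (mul_mem rK rK) (.of_mem hR.isP (mul_mem (hr b hb).1 (hr b hb).1))
      (by simpa [aa, Y.p_zero] using ad _ _ _ _ (hr b hb).1 (hr b hb).2 (hr b hb).2)
    have r1 : r b ≠ 1 := fun q => b0 (Y.inj _ _ _ (TK c (Y.p_L ..) (Y.t2 ..) (by simpa [q] using (hr b hb).2))).2.2
    by_cases u1 : u = 1
    · exact u1 ▸ (mul_one (r b)).symm ▸ D.of_K rK r2 r1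
    obtain ⟨k, hk, rfl⟩ := Y.cls u hu u2 u1
    obtain ⟨n, q⟩ := Y.hz b0
    have := (c.D (hr b hb).2 (by rw [mul_assoc, ← mul_assoc (Y.p ..), Y.pk rK, mul_assoc, Y.z_sq, mul_one, r2])
      fun e => b0 (Y.pK (x := 0) (a := 0) (by rw [eq_inv_of_mul_eq_one_right e]; exact inv_mem rK)).2.2).conj
        (k * (Y.h ^ n)⁻¹)
    rw [← conj_mul, Y.kc rK (mul_mem hk (inv_mem (pow_mem Y.h_L n))), ← q] at this
    convert this using 2; group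
  have gT : ∀ x a e, a * x = 0 → y * g0 * Y.p x a e * (y * g0)⁻¹ ∈ Y.T := fun x a e q => by
    obtain ⟨b, hb, x', a', e', k⟩ := mJ _ (conj_mem_of_mem_normalizer ey (mem_sup_right (Y.p_T x a e)))
    have s2 : r b * Y.p x' a' e' * (r b * Y.p x' a' e') = 1 := by rw [← k, conj_mul, Y.p_sq, q, Y.p_zero]; group
    rw [← Y.pk (hR.le (hr b hb).1)] at s2
    by_cases b0 : b = 0
    · rw [k, b0, uq (r 0) 1 0 (hr 0 Φ0).1 (one_mem _) (hr 0 Φ0).2 (by simp [Y.p_zero]), one_mul]; exact Y.p_T ..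
    · exact absurd (k ▸ Drt b hb b0 _ (Y.p_L ..) (Y.sq_dec (Y.p_L ..) (hR.le (hr b hb).1) s2).1 :
        Y.D (_ * _ * _)).of_conj (notD_L (Y.p_L ..))
  refine ⟨⟨Y, Φ, ?_, r, R, mR, hR, fun b b' a a' => uq _ _ (b + b') (mul_mem (hr b a).1 (hr b' a').1)
    (hr _ (Φa _ _ a a')).1 (ad _ _ _ _ (hr b' a').1 (hr b a).2 (hr b' a').2) (hr _ (Φa _ _ a a')).2,
    fun b hb q => (Y.inj _ _ _ (TK c (Y.p_L ..) (Y.t2 ..) (by simpa [q] using (hr b hb).2))).2.2, y * g0,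
    mem_normalizer_of_cj_le fun _ hu => ?_, fun b hb => ?_, fun b hb => ?_⟩, rfl⟩
  · by_cases q : Φ ω
    · exact .inl (F4.forall_iff.2 ⟨Φ0, Φ1, q, Φa _ _ Φ1 q⟩)
    · exact .inr (F4.forall_iff.2 ⟨by simp [Φ0], by simp [Φ1], iff_of_false q (by decide),
        iff_of_false (fun k => q (Φa _ _ Φ1 k)) (by decide)⟩)
  · obtain ⟨_, ⟨x, a, e, rfl⟩, rfl⟩ := mem_cj'.1 hu
    rw [show Y.p x a e = Y.p x 0 0 * Y.p 0 a e by simp [Y.mul], ← conj_mul]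
    exact mul_mem (gT _ _ _ (by simp)) (gT _ _ _ (by simp))
  · obtain ⟨b', hb', x, a, e, k⟩ := mJ _ (conj_mem_of_mem_normalizer' ey
      (mul_mem (mem_sup_left (hr b hb).1) (mem_sup_right (Y.p_T 0 0 b))))
    have : r b' * Y.p x a e ∈ 𝐂(Y.L) := k ▸ mem_cj.1 ((cj_centralizer ..).ge (show _ ∈ 𝐂((Y.cj _).L) from
      eL ▸ (hr b hb).2))
    obtain ⟨rfl, rfl, rfl⟩ := Y.pK ((mul_mem_cancel_left (hR.le (hr b' hb').1)).1 this)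
    exact ⟨b', hb', by rw [Y.p_zero, mul_one] at k; rw [← k]; group⟩
  · obtain ⟨b', hb', x, a, e, k⟩ := mJ _ (conj_mem_of_mem_normalizer ey (mem_sup_left (hr b hb).1))
    have := mul_mem (inv_mem (hr b' hb').2) (k ▸ eL ▸ mem_cjK (hR.le (hr b hb).1) : r b' * Y.p x a e ∈ _)
    rw [mul_inv_rev, mul_assoc, inv_mul_cancel_left, Y.z_inv, Y.z_mul] at this
    obtain ⟨rfl, rfl, q⟩ := Y.inj _ _ _ (TK c (Y.p_L ..) (Y.t2 ..) this)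
    exact ⟨b', hb', by rw [k, ae.1 q]⟩

theorem hy [IsSimpleGroup G] (Y : St G) : ∃ X : Hy G, X.toSt = Y := by
  obtain ⟨Y', c, ne, s, h1, h2, h3, h4⟩ := Y.step1
  obtain ⟨i, a, b, d⟩ := step2 c ne h1 h2 h3 h4
  exact exists_hy a b d

end St

end H10.So
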