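import Cfsg.Agent.Lib.Std.Sz8
import Cfsg.Agent.Lib.StdO.So7

/-! Standard subgroups `L₃(4)` with odd centre, part 8: tools for both end games. -/

set_option autoImplicit false
set_option maxRecDepth 100000
set_option synthInstance.maxSize 100000
set_option linter.unusedSectionVars false

namespace H10.So
open H10.Sz
open H69 Subgroup Cfsg
open H30 (F4)
open H10.HeS (T2)

variable {G : Type*} [Group G] [Finite G]

namespace Hy
variable {X : Hy G}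

theorem D_ex {s : G} (h : X.D s) : ∃ g c, X.Φ c ∧ c ≠ 0 ∧ s = g * X.r c * g⁻¹ := by
  obtain ⟨g, k, h1, h2, h3, rfl⟩ := h
  obtain ⟨j, -, c, hc, c0, rfl⟩ := K_inv h1 h2 h3
  exact ⟨g * j, c, hc, c0, by group⟩

theorem rankD {s : G} (hs : X.D s) {A : Type*} [AddCommGroup A] [Fintype A] (φ : A → G)
    (add : ∀ u v, φ (u + v) = φ u * φ v) (sq : ∀ u, φ u * φ u = 1) (cm : ∀ u, φ u * s = s * φ u) :
    ∃ g c, X.Φ c ∧ c ≠ 0 ∧ s = g * X.r c * g⁻¹ ∧ ((∀ u, g⁻¹ * φ u * g ∈ 𝐂(X.L) → u = 0) → Fintype.card A ≤ 8 ∨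
      (∀ u, ∃ x e, ∃ k ∈ 𝐂(X.L), g⁻¹ * φ u * g = X.p x 0 e * k) ∨
        ∀ u, ∃ a e, ∃ k ∈ 𝐂(X.L), g⁻¹ * φ u * g = X.p 0 a e * k) := by
  obtain ⟨g, c, hc, c0, rfl⟩ := D_ex hs
  let Q : Subgroup G := ⟨⟨⟨Set.range φ, by rintro _ _ ⟨u, rfl⟩ ⟨v, rfl⟩; exact ⟨_, add u v⟩⟩, 0, by simpa using add 0 0⟩,
    by rintro _ ⟨u, rfl⟩; exact ⟨u, (inv_eq_of_mul_eq_one_left (sq u)).symm⟩⟩
  have hN : ∀ u, g⁻¹ * φ u * g⁻¹⁻¹ ∈ 𝐍(X.L) := fun u => cr hc c0 (by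
    rw [← cji g, ← cjc, inv_inv, mul_assoc g⁻¹, mul_inv_cancel_left, mul_inv_cancel_right, cm, mul_inv_cancel_right])
  obtain ⟨l, hl, k⟩ := St.norm2 (Y := X.toSt) (Q := Q ^ᶜ g⁻¹) (isPGroup_cj (isPGroup_iff_mem.2 (by
    rintro _ ⟨u, rfl⟩; exact T2.of_sq (sq u))) _) (by rintro _ ⟨_, ⟨u, rfl⟩, rfl⟩; exact hN u)
  refine ⟨g * l⁻¹, c, hc, c0, by rw [cjm, X.kc (rK hc) (inv_mem hl)], fun inj => St.rank (fun u => (g * l⁻¹)⁻¹ * φ u * (g * l⁻¹))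
    (fun u v => by rw [add]; group)
    (fun u => by rw [show ∀ a b : G, a⁻¹ * b * a * (a⁻¹ * b * a) = a⁻¹ * (b * b) * a by intros; group, sq]; group) (fun u => ?_) (fun u => ?_) inj⟩
  · simpa [mul_assoc] using conj_mem_of_mem_normalizer (le_normalizer (X.LN hl)) (hN u)
  · simpa [mul_assoc] using k (cj_mem l (cj_mem g⁻¹ (show φ u ∈ Q from ⟨u, rfl⟩)))

/-- an elementary abelian group of order 16 without `D`-involutions centralised by a `D`-involution -/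
theorem e16 {s : G} (hs : X.D s) (φ : F4 × F4 → G) (add : ∀ u v, φ (u + v) = φ u * φ v) (sq : ∀ u, φ u * φ u = 1)
    (inj : ∀ u, φ u = 1 → u = 0) (cm : ∀ u, φ u * s = s * φ u) (nD : ∀ u, ¬ X.D (φ u)) :
    ∃ g c, X.Φ c ∧ c ≠ 0 ∧ s = g * X.r c * g⁻¹ ∧ (((∀ u, ∃ x e, φ u = g * X.p x 0 e * g⁻¹) ∧
      ∀ x e, ∃ u, φ u = g * X.p x 0 e * g⁻¹) ∨ (∀ u, ∃ x e, φ u = g * X.p 0 x e * g⁻¹) ∧
        ∀ x e, ∃ u, φ u = g * X.p 0 x e * g⁻¹) := by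
  obtain ⟨g, c, hc, c0, e, k⟩ := rankD hs φ add sq cm
  have s2 : ∀ u, g⁻¹ * φ u * g * (g⁻¹ * φ u * g) = 1 := fun u => by simp [mul_assoc, ← mul_assoc (φ u), sq]
  have nD' : ∀ u, ¬ X.D (g⁻¹ * φ u * g) := fun u h => nD u (by simpa [mul_assoc] using h.conj g)
  have a : ∀ u x a e, (∃ k ∈ 𝐂(X.L), g⁻¹ * φ u * g = X.p x a e * k) → φ u = g * X.p x a e * g⁻¹ :=
    fun u x a e ⟨k, hk, q⟩ => by
      obtain ⟨h1, h2⟩ := X.sq_dec (X.p_L ..) hk (q ▸ s2 u)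
      obtain rfl : k = 1 := by_contra fun k1 => nD' u (q ▸ Dlk (X.p_L ..) h1 hk h2 k1)
      rw [← mul_one (X.p ..), ← q]; group
  have b : ∀ f : F4 → F4 → G, (∀ u, ∃ x e, φ u = f x e) → ∀ x e, ∃ u, φ u = f x e := fun f h x e => by
    choose i j q using h
    obtain ⟨u, hu⟩ := Finite.surjective_of_injective (f := fun u => (i u, j u)) (fun u v h => by
      obtain ⟨h1, h2⟩ := Prod.ext_iff.1 h
      have := inj (u + v) (by rw [add, q v, ← show i u = i v from h1, ← show j u = j v from h2, ← q u, sq])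
      exact Prod.ext (ae.1 (congrArg Prod.fst this)) (ae.1 (congrArg Prod.snd this))) (x, e)
    obtain ⟨rfl, rfl⟩ := Prod.ext_iff.1 hu
    exact ⟨u, q u⟩
  refine ⟨g, c, hc, c0, e, ((k fun u h => by_contra fun u0 => nD' u (.of_K h (s2 u) fun q => u0 (inj u (by
    rw [← cji g] at q; simpa [mul_assoc] using q)))).resolve_left card16).imp (fun h => ?_) fun h => ?_⟩ <;>
    exact ⟨fun u => (h u).imp fun _ => .imp fun _ => a u _ _ _, b _ fun u => (h u).imp fun _ => .imp fun _ => a u _ _ _⟩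

/-- an inner involution outside `D` is conjugate to `z` -/
theorem in_z {i : G} (h : X.In i) (i2 : i * i = 1) (nD : ¬ X.D i) : i ∈ X.L := by
  obtain ⟨l, hl, k, hk, tl, -, rfl⟩ := h.two (.of_sq i2)
  obtain ⟨h1, h2⟩ := X.sq_dec hl hk i2 tl
  obtain rfl : k = 1 := by_contra fun k1 => nD (Dlk hl h1 hk h2 k1)
  simpa using hl

end Hy

theorem St.perf [IsSimpleGroup G] (Y : St G) : commutator G = ⊤ :=
  (commutator_normal ⊤ ⊤).eq_bot_or_eq_top.resolve_left fun e => by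
    have : Y.p 1 0 0 * Y.p 0 1 0 * (Y.p 1 0 0)⁻¹ * (Y.p 0 1 0)⁻¹ ∈ commutator G :=
      commutator_mem_commutator (mem_top _) (mem_top _)
    rw [show commutator G = ⊥ from e, mem_bot, St.cm_p] at this
    exact Y.z_ne (by decide) this

end H10.So
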