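import Cfsg.Agent.Lib.Std.Sz9
import Cfsg.Agent.Lib.StdO.So8

/-! Standard subgroups `L₃(4)` with odd centre, part 9: the groups `P`, `Y` and `M = Y P`. -/

set_option autoImplicit false
set_option maxRecDepth 100000
set_option synthInstance.maxSize 100000
set_option linter.unusedSectionVars false

namespace H10.So
open H10.Sz
open H69 Subgroup Cfsg
open H30 (F4)
open H10.HeS (T2)

variable {G : Type*} [Group G] [Finite G]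

theorem Hy.cK0 {X : Hy G} {o : G} {c : F4} (hc : X.Φ c) (c0 : c ≠ 0) {g : G} (g2 : g * g = 1) {x e : F4}
    (h : g * X.r c * g⁻¹ = X.r c * X.p x 0 e) (hv : ∀ x e, g * X.p x 0 e * g⁻¹ = X.p x 0 e)
    (ho : o ∈ 𝐂(X.L)) (od : Odd (orderOf o)) (hr : o * X.r c * o⁻¹ = X.r c) :
    g * o * g⁻¹ ∈ 𝐂(X.L) ∧ g * o * g⁻¹ * X.r c * (g * o * g⁻¹)⁻¹ = X.r c := by
  have gi := inv_eq_of_mul_eq_one_left g2
  have k : g * o * g⁻¹ * X.r c * (g * o * g⁻¹)⁻¹ = X.r c := by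
    rw [cjm, cjm, inv_inv, show g⁻¹ * X.r c * g = g * X.r c * g⁻¹ by rw [gi], h, cjs o, hr,
      conj_eq_of_mem_centralizer ho (X.p_L ..), cjs, h, hv, mul_assoc, X.v_sq, mul_one]
  obtain ⟨x', e', k', hk, q⟩ := St.cV (Hy.cr hc c0 k) fun x e => by
    rw [← hv x e, cjc, conj_eq_of_mem_centralizer ho (X.p_L ..)]
  exact ⟨mem_of_sq (by rwa [ord_cj]) (by
    rw [q, mul_assoc, ← mul_assoc k', ← X.pk hk, ← mul_assoc, ← mul_assoc, X.v_sq, one_mul]; exact mul_mem hk hk), k⟩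

namespace Su
open H10.So.Hy H10.So.H1
variable (X : Su G)

/-- the two sides exchanged -/
def swap : Su G := ⟨X.toH1.swap, X.all, X.y', X.y, X.sd', X.toH1.swap_swap.symm ▸ X.sd⟩

/-- coordinates on `P` -/
def q (v : Vc) (e : F4) : G := X.π v.1 v.2.1 v.2.2.1 v.2.2.2 e

theorem q_mul (v w : Vc) (e f : F4) : X.q v e * X.q w f = X.q (v + w) (e + f + bf v w) := by
  rw [q, q, π_mul (X.all _) (X.all _), bf, ← add_assoc]; rfl
theorem q_eq {v w : Vc} {e f : F4} : X.q v e = X.q w f ↔ v = w ∧ e = f :=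
  ⟨fun h => let ⟨h1, h2, h3, h4, h5⟩ := π_inj (X.all _) (X.all _) h
    ⟨Prod.ext h1 (Prod.ext h2 (Prod.ext h3 h4)), h5⟩, by rintro ⟨rfl, rfl⟩; rfl⟩
theorem q_p (x a e : F4) : X.q (x, a, 0, 0) e = X.p x a e := π_p ..
theorem q_z (e : F4) : X.q 0 e = X.p 0 0 e := π_p ..
theorem q_r (c e : F4) : X.q (0, 0, c, 0) e = X.r c * X.p 0 0 e := by rw [rp (X.all c)]; exact π_r ..
theorem q_r0 (c : F4) : X.q (0, 0, c, 0) 0 = X.r c := by rw [q_r, X.p_zero, mul_one]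
theorem q_d (b : F4) : X.q (0, 0, 0, b) 0 = X.d b := π_d b
theorem q_one : X.q 0 0 = 1 := (X.q_z 0).trans X.p_zero
theorem vv (v : Vc) : v + v = 0 := by revert v; decide
theorem q_sq (v : Vc) (e : F4) : X.q v e * X.q v e = X.q 0 (bf v v) := by rw [q_mul, vv, aa, zero_add]
theorem q_inv (v : Vc) (e : F4) : (X.q v e)⁻¹ = X.q v (e + bf v v) :=
  inv_eq_of_mul_eq_one_right (by rw [q_mul, vv, aa', aa, q_one])
theorem q_cj (v w : Vc) (e f : F4) : X.q v e * X.q w f * (X.q v e)⁻¹ = X.q w (f + (bf v w + bf w v)) := by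
  rw [mul_inv_eq_iff_eq_mul, q_mul, q_mul, add_comm v]; congr 1
  rw [add_comm e, add_assoc, add_assoc, add_assoc, add_assoc, add_comm (bf w v), add_assoc, aa, add_zero, add_comm e]
theorem zq (v : Vc) (e f : F4) : X.q 0 f * X.q v e = X.q v (e + f) := by simp [q_mul, bf, add_comm]
theorem qz (v : Vc) (e f : F4) : X.q v e * X.q 0 f = X.q v (e + f) := by simp [q_mul, bf]
theorem q_t2 (v : Vc) (e : F4) : T2 (X.q v e) := π_t2 (X.all _) ..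
theorem q_CO (v : Vc) (e : F4) : X.q v e ∈ X.CO := π_CO (X.all _) _ _ _ _
theorem swap_q (v : Vc) (e : F4) : X.swap.q v e = X.q (v.2.1, v.1, v.2.2) (e + v.2.1 * v.1) := rfl
theorem ya (u : F4) (v : Vc) (e : F4) : X.y u * X.q v e * (X.y u)⁻¹ = X.q (ym u v)
    (e + 1 * (u * u * u * (v.2.1 * v.2.1) + v.2.1 * v.2.2.2 * (u * u) + v.2.2.2 * v.2.2.2 * u)) :=
  X.sd.act _ _ _ _ _ _ (X.all _)
theorem yb (u : F4) (v : Vc) (e : F4) : X.y' u * X.q v e * (X.y' u)⁻¹ = X.q (yn u v)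
    (e + v.1 * v.2.2.1 * u + 1 * (v.2.2.2 * v.2.2.2 * u)) := X.sd'.act' _ _ _ _ _ _ (X.all _)
theorem hq (v : Vc) (e : F4) : X.h * X.q v e * X.h⁻¹ = X.q (ϖ * v.1, ϖ * v.2.1, v.2.2.1, ω * v.2.2.2) (ω * e) :=
  h_π (X.all _) ..

/-- the group `P` -/
def P : Subgroup G where
  carrier := {g | ∃ v e, g = X.q v e}
  mul_mem' := by rintro _ _ ⟨v, e, rfl⟩ ⟨w, f, rfl⟩; exact ⟨_, _, X.q_mul ..⟩
  one_mem' := ⟨_, _, X.q_one.symm⟩
  inv_mem' := by rintro _ ⟨v, e, rfl⟩; exact ⟨_, _, X.q_inv ..⟩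

theorem q_P (v : Vc) (e : F4) : X.q v e ∈ X.P := ⟨_, _, rfl⟩
theorem p_P (x a e : F4) : X.p x a e ∈ X.P := ⟨_, _, (X.q_p ..).symm⟩
theorem r_P (c : F4) : X.r c ∈ X.P := ⟨_, _, (X.q_r0 c).symm⟩
theorem d_P (c : F4) : X.d c ∈ X.P := ⟨_, _, (X.q_d c).symm⟩
theorem isP_P : IsPGroup 2 X.P := isPGroup_iff_mem.2 (by rintro _ ⟨v, e, rfl⟩; exact X.q_t2 ..)
theorem P_CO : X.P ≤ X.CO := by rintro _ ⟨v, e, rfl⟩; exact X.q_CO _ _
theorem swap_P : X.swap.P = X.P := by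
  ext g
  exact ⟨fun ⟨_, _, h⟩ => ⟨_, _, h.trans (X.swap_q ..)⟩, fun ⟨v, e, h⟩ => ⟨(v.2.1, v.1, v.2.2), e + v.1 * v.2.1, by
    rw [h, swap_q, add_assoc, aa, add_zero]⟩⟩

/-- the action on `P / Z` -/
def Ac (g : G) (F : Vc → Vc) : Prop := ∀ v e, ∃ f, g * X.q v e * g⁻¹ = X.q (F v) f
/-- centralising `Z` -/
def Cz (g : G) : Prop := ∀ e, g * X.q 0 e * g⁻¹ = X.q 0 e

variable {X}
theorem Ac.mul {g k : G} {F K : Vc → Vc} (h : X.Ac g F) (h' : X.Ac k K) : X.Ac (g * k) fun v => F (K v) :=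
  fun v e => let ⟨f, a⟩ := h' v e; (h _ f).imp fun _ b => by rw [cjm, a, b]
theorem Ac.congr {g : G} {F K : Vc → Vc} (h : X.Ac g F) (e : ∀ v, F v = K v) : X.Ac g K := fun v f => e v ▸ h v f
theorem Ac.uniq {g : G} {F K : Vc → Vc} (h : X.Ac g F) (h' : X.Ac g K) (v : Vc) : F v = K v :=
  let ⟨_, a⟩ := h v 0; let ⟨_, b⟩ := h' v 0; (X.q_eq.1 (a.symm.trans b)).1
theorem Ac.norm {g : G} {F : Vc → Vc} (h : X.Ac g F) : g ∈ 𝐍(X.P) := mem_normalizer_of_cj_le fun _ hg => by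
  obtain ⟨_, ⟨v, e, rfl⟩, rfl⟩ := mem_cj'.1 hg
  exact ⟨_, h v e⟩
theorem Ac.of_P {g : G} (h : g ∈ X.P) : X.Ac g id := by
  obtain ⟨v, e, rfl⟩ := h; exact fun _ _ => ⟨_, X.q_cj ..⟩
theorem Ac.inv {g : G} {F K : Vc → Vc} (h : X.Ac g F) (e : ∀ v, F (K v) = v) : X.Ac g⁻¹ K := fun v f => by
  obtain ⟨w, f', k⟩ := conj_mem_of_mem_normalizer (inv_mem h.norm) (X.q_P v f)
  obtain ⟨_, k1⟩ := h w f'
  rw [← k, ← cjm, mul_inv_cancel, one_mul, inv_one, mul_one, q_eq] at k1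
  exact ⟨f', Finite.injective_iff_surjective.2 (fun v => ⟨K v, e v⟩) (k1.1.symm.trans (e v).symm) ▸ k⟩
theorem Ac.y (u : F4) : X.Ac (X.y u) (ym u) := fun _ _ => ⟨_, X.ya ..⟩
theorem Ac.y' (u : F4) : X.Ac (X.y' u) (yn u) := fun _ _ => ⟨_, X.yb ..⟩
theorem Cz.mul {g k : G} (h : X.Cz g) (h' : X.Cz k) : X.Cz (g * k) := fun e => by rw [cjm, h', h]
theorem cz_iff {g : G} : X.Cz g ↔ g ∈ 𝐂(X.Z) := ⟨fun h => by
  rintro _ ⟨e, rfl⟩; exact (mul_inv_eq_iff_eq_mul.1 (X.q_z e ▸ h e)).symm,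
  fun h e => X.q_z e ▸ conj_eq_of_mem_centralizer h (X.z_Z e)⟩
theorem Cz.of_P {g : G} (h : g ∈ X.P) : X.Cz g := by
  obtain ⟨v, e, rfl⟩ := h; exact fun _ => by simp [X.q_cj, bf]
theorem Cz.y (u : F4) : X.Cz (X.y u) := fun e => (X.ya u 0 e).trans (by simp [ym]; rfl)
theorem Cz.y' (u : F4) : X.Cz (X.y' u) := fun e => (X.yb u 0 e).trans (by simp [yn]; rfl)
theorem y_CO (u : F4) : X.y u ∈ X.CO := X.sd.co u
theorem y'_CO (u : F4) : X.y' u ∈ X.CO := swap_CO (X := X.toHy) ▸ X.sd'.co u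

variable (X) in
/-- the group generated by `P`, `Y` and `Y'` -/
def CX : Subgroup G := closure {g | g ∈ X.P ∨ ∃ u, g = X.y u ∨ g = X.y' u}
theorem CX_le {U : Subgroup G} (h : X.P ≤ U) (h1 : ∀ u, X.y u ∈ U) (h2 : ∀ u, X.y' u ∈ U) : X.CX ≤ U :=
  (closure_le _).2 (by rintro _ (k | ⟨u, rfl | rfl⟩); exacts [h k, h1 u, h2 u])
theorem P_CX : X.P ≤ X.CX := fun _ h => subset_closure (.inl h)
theorem y_CX (u : F4) : X.y u ∈ X.CX := subset_closure (.inr ⟨u, .inl rfl⟩)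
theorem y'_CX (u : F4) : X.y' u ∈ X.CX := subset_closure (.inr ⟨u, .inr rfl⟩)
theorem CX_Z {k : G} (h : k ∈ X.CX) : X.Cz k := cz_iff.2 (CX_le (fun _ h => cz_iff.1 (.of_P h))
  (fun u => cz_iff.1 (.y u)) (fun u => cz_iff.1 (.y' u)) h)
theorem CX_CO : X.CX ≤ X.CO := CX_le X.P_CO y_CO y'_CO
theorem CX_N : X.CX ≤ 𝐍(X.P) := CX_le le_normalizer (fun u => (Ac.y u).norm) fun u => (Ac.y' u).norm

variable (X) in
/-- a word -/
def wd (u : Vc) : G := X.y u.1 * (X.y' u.2.1 * (X.y u.2.2.1 * X.y' u.2.2.2))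
theorem wd_CX (u : Vc) : X.wd u ∈ X.CX := mul_mem (y_CX _) (mul_mem (y'_CX _) (mul_mem (y_CX _) (y'_CX _)))
theorem Ac.wd (u : Vc) : X.Ac (X.wd u) (wm u) := (Ac.y _).mul ((Ac.y' _).mul ((Ac.y _).mul (Ac.y' _)))

theorem to_r {v : Vc} (e : F4) (h : bf v v = 0) (k : ¬ dg v) : ∃ k ∈ X.CX, k * X.q v e * k⁻¹ = X.r 1 := by
  obtain ⟨u, hu⟩ := (by decide +kernel : ∀ v, bf v v = 0 → ¬ dg v → ∃ u, wm u v = (0, 0, 1, 0)) v h k
  obtain ⟨f, q⟩ := Ac.wd (X := X) u v e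
  exact ⟨_, mul_mem (P_CX (X.q_P (0, 0, 0, f) 0)) (wd_CX u), by rw [cjm, q, hu, q_cj, ← q_r0]; simp [bf, aa]⟩
theorem to_v {v : Vc} (e : F4) (k : dg v) : ∃ k ∈ X.CX, ∃ x f, k * X.q v e * k⁻¹ = X.p x 0 f := by
  obtain ⟨u, x, hu⟩ := (by decide +kernel : ∀ v, dg v → ∃ u x, wm u v = (x, 0, 0, 0)) v k
  obtain ⟨f, q⟩ := Ac.wd (X := X) u v e
  exact ⟨_, wd_CX u, x, f, by rw [q, hu, q_p]⟩
theorem D_r {c : F4} (h : c ≠ 0) : X.D (X.r c) := .of_K (rK (X.all c)) (r2 (X.all c)) (r_ne (X.all c) h)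
theorem D_q {v : Vc} (e : F4) (h : bf v v = 0) (k : ¬ dg v) : X.D (X.q v e) :=
  let ⟨_, _, q⟩ := to_r (X := X) e h k; St.D.of_conj (q ▸ D_r one_ne_zero)
theorem nD_q {v : Vc} (e : F4) (k : dg v) : ¬ X.D (X.q v e) := fun h =>
  let ⟨k, _, _, _, q⟩ := to_v (X := X) e k; St.notD_L (X.p_L ..) (q ▸ h.conj k)
theorem sq0 {v : Vc} {e : F4} (h : X.q v e * X.q v e = 1) : bf v v = 0 := by
  rw [q_sq, ← X.q_one, q_eq] at h; exact h.2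
theorem dg_of {v : Vc} {e : F4} {g l : G} (hl : l ∈ X.L) (l2 : l * l = 1) (h : g * l * g⁻¹ = X.q v e) : dg v :=
  by_contra fun k => St.notD_L hl (St.D.of_conj (h ▸ D_q e (sq0 (by rw [← h, conj_mul, l2]; simp)) k))

theorem od {o : G} {c : F4} (c0 : c ≠ 0) (ho : o ∈ 𝐂(X.L)) (h : Odd (orderOf o)) (hr : o * X.r c * o⁻¹ = X.r c) :
    X.Od o := by
  have k : ∀ u a, o * (X.r (u * u * a) * X.d (a * u)) * o⁻¹ = X.r (u * u * a) * X.d (a * u) := fun u a => by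
    have h1 := (cK0 (X.all c) c0 (X.sd.y2 u) ((X.sd.B u).r c (X.all c)) (X.sd.B u).v ho h hr).1
    have h2 := conj_eq_of_mem_centralizer h1 (X.p_L 0 a 0)
    rw [cjm, cjm, ← cji (X.y u)⁻¹, ← cjm, inv_mul_cancel, X.sd.inv, X.sd.inv, ← X.q_p, one_mul, inv_one, mul_one,
      mul_assoc o, mul_assoc (X.y u)] at h2
    have h3 := X.ya u (0, a, 0, 0) 0
    rw [X.sd.inv, mul_assoc] at h3
    rw [h3, ← mul_assoc o, q, π, mul_assoc (X.p ..), cjs, conj_eq_of_mem_centralizer ho (X.p_L ..), mul_right_inj] at h2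
    simpa [ym] using h2
  refine ⟨h, fun _ _ _ => conj_eq_of_mem_centralizer ho (X.p_L ..), fun a _ => ?_⟩
  have : X.r a = X.r (1 * 1 * (a * ω)) * X.d (a * ω * 1) * (X.r (ω * ω * a) * X.d (a * ω))⁻¹ := by
    rw [mul_inv_rev, mul_one (a * ω), mul_assoc, mul_inv_cancel_left, r_inv (X.all _), X.r_mul _ _ (X.all _) (X.all _)]
    congr 1; clear * -; decide +revert
  rw [this, cjs, k, ← conj_inv, k]

theorem K2 {k : G} (hk : k ∈ 𝐂(X.L)) (t : T2 k) : k * k = 1 := by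
  haveI := Fact.mk Nat.prime_two
  obtain ⟨j, -, h⟩ := X.sylR.exists_cj_le t.pg (zpowers_le.2 hk)
  obtain ⟨c, hc, e⟩ := (X.memR _).1 (h (cj_mem j (mem_zpowers k)))
  exact conj_eq_one_iff.1 (by rw [← conj_mul, e, r2 hc])

theorem cK1 {s : G} {c : F4} (c0 : c ≠ 0) (hs : s ∈ 𝐂(X.L)) (t : T2 s) (hr : s * X.r c * s⁻¹ = X.r c) :
    ∃ c, s = X.r c := by
  have s2 := K2 hs t
  obtain ⟨c', o, -, ho, e⟩ := cR hs fun a _ => by
    obtain ⟨x, hx, b, hb, tx, ob, e⟩ := dec2 (s * X.r a)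
    have hK := zpowers_le.2 (mul_mem hs (rK (X.all a)))
    have h1 : zpowers (s * X.r a) ≤ centralizer {X.r c} := zpowers_le.2 (mem_centralizer_singleton_iff.2 (by
      rw [mul_assoc, X.r_mul _ _ (X.all _) (X.all _), add_comm, ← X.r_mul _ _ (X.all _) (X.all _), ← mul_assoc,
        mul_inv_eq_iff_eq_mul.1 hr, mul_assoc]))
    have h2 := (od c0 (hK hb) ob (mul_inv_eq_iff_eq_mul.2 (mem_centralizer_singleton_iff.1 (h1 hb)))).2.2 a (X.all a)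
    obtain ⟨i, rfl⟩ := hb
    have h3 : X.r a * (s * X.r a) * (X.r a)⁻¹ = (s * X.r a)⁻¹ := by
      rw [mul_inv_rev, inv_eq_of_mul_eq_one_left s2, r_inv (X.all a), mul_assoc, mul_assoc, r2 (X.all a), mul_one]
    have h4 : (s * X.r a) ^ i = 1 := T2.odd (.of_sq (by
      nth_rewrite 1 [← mul_inv_cancel_right (_ ^ i) (X.r a), mul_inv_eq_iff_eq_mul.1 h2]
      rw [← conj_zpow, h3, inv_zpow, inv_mul_cancel])) ob
    simp only [h4, mul_one] at e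
    have := K2 (hK (mem_zpowers _)) (e ▸ tx)
    rw [inv_eq_of_mul_eq_one_left s2, ← mul_assoc] at *
    rw [eq_inv_of_mul_eq_one_left this, r_inv (X.all a)]
  exact ⟨c', by rw [e, od_one (r_CO (X.all _)) (.of_sq (r2 (X.all _))) ho (e ▸ t), mul_one]⟩

theorem cKr {k : G} {c : F4} (c0 : c ≠ 0) (hk : k ∈ 𝐂(X.L)) (hr : k * X.r c * k⁻¹ = X.r c) :
    ∃ c o, X.Od o ∧ k = X.r c * o := by
  obtain ⟨x, hx, b, hb, tx, ob, e⟩ := dec2 k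
  have hK := zpowers_le.2 hk
  have h1 : ∀ x ∈ zpowers k, x * X.r c * x⁻¹ = X.r c := fun x hx => mul_inv_eq_iff_eq_mul.2
    (mem_centralizer_singleton_iff.1 (zpowers_le.2 (mem_centralizer_singleton_iff.2 (mul_inv_eq_iff_eq_mul.1 hr)) hx))
  obtain ⟨c', rfl⟩ := cK1 c0 (hK hx) tx (h1 x hx)
  exact ⟨c', b, od c0 (hK hb) ob (h1 b hb), e⟩

theorem memP {g : G} (h : X.Ac g id) : ∃ v e o, X.Od o ∧ g = X.q v e * o := by
  have hz : X.Cz g := fun e => by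
    obtain ⟨f, a⟩ := h (e, 0, 0, 0) 0
    obtain ⟨f', b⟩ := h (0, 1, 0, 0) 0
    simp only [id, q_p] at a b
    simpa [q_z] using Pm.cm_of a b
  obtain ⟨e, a⟩ := h (0, 0, 1, 0) 0
  have h1 := (Ac.of_P (X.q_P (0, 0, 0, e) 0)).mul h
  have a1 : X.q (0, 0, 0, e) 0 * g * X.r 1 * (X.q (0, 0, 0, e) 0 * g)⁻¹ = X.r 1 := by
    rw [← q_r0, cjm, a, q_cj]; simp [bf, aa]
  obtain ⟨x, b, f, k, hk, q⟩ := St.tk_of_act (cr X.Φ1 one_ne_zero a1) (.of_triv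
    (fun x a e => by simpa only [id, q_p] using h1 (x, a, 0, 0) e)
    fun e => by simpa only [q_z] using (Cz.of_P (X.q_P ..)).mul hz e)
  obtain ⟨c, o, ho, rfl⟩ := cKr one_ne_zero hk (by
    rw [← cji (X.p x b f), X.kc (rK X.Φ1) (X.p_L ..), ← cjm, ← q, a1])
  obtain ⟨v, e', k⟩ := mul_mem (inv_mem (X.q_P (0, 0, 0, e) 0)) (mul_mem (X.p_P x b f) (X.r_P c))
  exact ⟨v, e', o, ho, by rw [← k, mul_assoc, mul_assoc, ← q, inv_mul_cancel_left]⟩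
theorem memP2 {g : G} (h : X.Ac g id) (t : T2 g) : g ∈ X.P := by
  obtain ⟨v, e, o, ho, rfl⟩ := memP h
  exact ⟨v, e, by rw [od_one (X.q_CO _ _) (X.q_t2 ..) ho t, mul_one]⟩

variable (X) in
/-- the group `V` -/
def V : Subgroup G where
  carrier := {g | ∃ x e, g = X.p x 0 e}
  mul_mem' := by rintro _ _ ⟨v, e, rfl⟩ ⟨w, f, rfl⟩; exact ⟨_, _, X.v_mul ..⟩
  one_mem' := ⟨_, _, X.p_zero.symm⟩
  inv_mem' := by rintro _ ⟨v, e, rfl⟩; exact ⟨_, _, X.v_inv ..⟩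
theorem v_V (x e : F4) : X.p x 0 e ∈ X.V := ⟨_, _, rfl⟩
theorem mem_W {g : G} : g ∈ X.swap.V ↔ ∃ a e, g = X.p 0 a e := by
  simp [V, swap, H1.swap, Hy.swap, St.swap, Pm.swap_p, ← SetLike.mem_coe]
theorem card_V : Nat.card X.V = 16 := by
  rw [← Nat.card_congr (Equiv.ofBijective (fun u : F4 × F4 => (⟨_, v_V u.1 u.2⟩ : X.V)) ⟨fun u v h => by
    have := X.p_inj (congrArg Subtype.val h); exact Prod.ext this.1 this.2.2,
    by rintro ⟨_, x, e, rfl⟩; exact ⟨(x, e), rfl⟩⟩), Nat.card_eq_fintype_card]; decide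
theorem V_eq {X' : Su G} {k : G} (h : ∀ x e, k * X.p x 0 e * k⁻¹ ∈ X'.V) : X.V ^ᶜ k = X'.V :=
  eq_of_le_of_card_ge (fun _ hg => by obtain ⟨_, ⟨x, e, rfl⟩, rfl⟩ := mem_cj'.1 hg; exact h x e)
    (by rw [card_cj, card_V, card_V])

theorem M_mul (v w : Vc) (e f u u' : F4) : ∃ e', X.q v e * X.y u * (X.q w f * X.y u') =
    X.q (v + ym u w) e' * X.y (u + u') :=
  ⟨_, by rw [← X.sd.mul, ← mul_assoc, ← mul_assoc, mul_assoc _ (X.y u) (X.q _ _), ← inv_mul_cancel_right (X.y u * _) (X.y u),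
    X.ya, ← mul_assoc, q_mul]⟩

variable (X) in
/-- the group `M = Y P` -/
def M : Subgroup G where
  carrier := {g | ∃ v e u, g = X.q v e * X.y u}
  mul_mem' := by rintro _ _ ⟨v, e, u, rfl⟩ ⟨w, f, u', rfl⟩; exact let ⟨_, h⟩ := M_mul v w e f u u'; ⟨_, _, _, h⟩
  one_mem' := ⟨0, 0, 0, by rw [q_one, X.sd.y0, mul_one]⟩
  inv_mem' := by
    rintro _ ⟨v, e, u, rfl⟩
    exact ⟨_, _, u, by rw [mul_inv_rev, q_inv, ← X.ya, X.sd.inv, mul_assoc, X.sd.y2, mul_one]⟩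

theorem Y_mul (x c b e u x' c' b' e' u' : F4) : X.q (x, 0, c, b) e * X.y u * (X.q (x', 0, c', b') e' * X.y u') =
    X.q (x + x' + c' * u + b' * (u * u), 0, c + c', b + b') (e + e' + c' * b + b' * b' * u) * X.y (u + u') := by
  rw [← X.sd.mul, ← mul_assoc, ← mul_assoc, mul_assoc _ (X.y u) (X.q _ _), ← inv_mul_cancel_right (X.y u * _) (X.y u), X.ya,
    ← mul_assoc, q_mul]
  simp only [ym, bf, Prod.mk_add_mk]
  congr 3 <;> simp [add_assoc, add_comm, add_left_comm]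

variable (X) in
/-- the group `Y` -/
def Y : Subgroup G where
  carrier := {g | ∃ x c b e u, g = X.q (x, 0, c, b) e * X.y u}
  mul_mem' := by rintro _ _ ⟨_, _, _, _, _, rfl⟩ ⟨_, _, _, _, _, rfl⟩; exact ⟨_, _, _, _, _, Y_mul ..⟩
  one_mem' := ⟨0, 0, 0, 0, 0, by rw [X.sd.y0, mul_one]; exact X.q_one.symm⟩
  inv_mem' := by
    rintro _ ⟨x, c, b, e, u, rfl⟩
    refine ⟨x + c * u + b * (u * u), c, b, e + c * b + b * b * u, u, inv_eq_of_mul_eq_one_right ?_⟩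
    rw [Y_mul, aa u, X.sd.y0, mul_one, ← X.q_one, q_eq]; clear * -; decide +revert +kernel

theorem P_M : X.P ≤ X.M := by rintro _ ⟨v, e, rfl⟩; exact ⟨v, e, 0, by rw [X.sd.y0, mul_one]⟩
theorem y_M (u : F4) : X.y u ∈ X.M := ⟨0, 0, u, by rw [q_one, one_mul]⟩
theorem Y_M : X.Y ≤ X.M := fun _ ⟨_, _, _, _, _, h⟩ => ⟨_, _, _, h⟩
theorem q_Y (x c b e : F4) : X.q (x, 0, c, b) e ∈ X.Y := ⟨x, c, b, e, 0, by rw [X.sd.y0, mul_one]⟩
theorem r_Y (c : F4) : X.r c ∈ X.Y := X.q_r0 c ▸ q_Y ..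
theorem M_CX : X.M ≤ X.CX := by rintro _ ⟨v, e, u, rfl⟩; exact mul_mem (P_CX (X.q_P ..)) (y_CX u)
theorem isP_M : IsPGroup 2 X.M := isPGroup_iff_mem.2 (by
  rintro _ ⟨v, e, u, rfl⟩
  obtain ⟨_, h⟩ := M_mul (X := X) v v e e u u
  exact T2.of_pow (k := 1) (by rw [pow_one, sq, h, aa, X.sd.y0, mul_one]; exact X.q_t2 ..))
theorem M_t2 {g : G} (h : g ∈ X.M) : T2 g := .of_mem isP_M h
theorem Y_B {g : G} (h : g ∈ X.Y) : ∃ b b', X.B g b b' := by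
  obtain ⟨x, c, b, e, u, rfl⟩ := h; exact ⟨_, _, (π_B (X.all _) ..).mul (X.sd.B u)⟩
theorem Y_v {g : G} (h : g ∈ X.Y) (x e : F4) : g * X.p x 0 e * g⁻¹ = X.p x 0 e := (Y_B h).choose_spec.choose_spec.v x e
theorem Y_cm {g k : G} (h : g ∈ X.Y) (h' : k ∈ X.Y) : ∃ x e, g * k * g⁻¹ = k * X.p x 0 e := by
  obtain ⟨x, c, b, e, u, rfl⟩ := h
  obtain ⟨x', c', b', e', u', rfl⟩ := h'
  refine ⟨c' * u + b' * (u * u) + c * u' + b * (u' * u'), c' * b + b' * b' * u + c * b' + b * b * u', ?_⟩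
  rw [mul_inv_eq_iff_eq_mul, ← q_p, ← mul_one (X.q (_, 0, 0, 0) _), ← X.sd.y0, Y_mul, Y_mul, Y_mul]
  congr 2 <;> [congr 1; skip; skip] <;> (ring_nf; try simp only [F4.two_eq_zero, mul_zero, add_zero, zero_add])

theorem memY1 {g : G} {c x e : F4} (c0 : c ≠ 0) (t : T2 g) (hv : ∀ x e, g * X.p x 0 e * g⁻¹ = X.p x 0 e)
    (hr : g * X.r c * g⁻¹ = X.r c * X.p x 0 e) : g ∈ X.Y := by
  have h1 := (X.d_A (c⁻¹ * e)).toB.mul (X.sd.B (c⁻¹ * x))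
  generalize X.d (c⁻¹ * e) * X.y (c⁻¹ * x) = j at h1
  have a1 : g * j⁻¹ * X.r c * (g * j⁻¹)⁻¹ = X.r c := by
    rw [cjm, h1.inv.r c (X.all c), cjs, hr, hv, mul_assoc, X.v_mul]; simp [c0, aa, X.p_zero]
  obtain ⟨x', e', k, hk, q⟩ := St.cV (cr (X.all c) c0 a1) fun x e => by rw [cjm, h1.inv.v, hv]
  obtain ⟨c', o, ho, rfl⟩ := cKr c0 hk (by
    rw [← cji (X.p x' 0 e'), X.kc (rK (X.all c)) (X.p_L ..), ← cjm, ← q, a1])
  have h2 := ((B.of_p x' e').mul ((B.of_r (X.all c')).mul (show X.B o 0 0 from ⟨fun _ _ => ho.2.1 ..,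
    fun c hc => by simp [X.p_zero, ho.2.2 c hc]⟩))).mul h1
  rw [← q, inv_mul_cancel_right] at h2
  obtain ⟨_, _, _, _, h3⟩ := X.sd.memY h2 t
  exact ⟨_, _, _, _, _, h3⟩

theorem tr {X' : Su G} {k : G} (h : X.V ^ᶜ k = X'.V) {c : F4} (c0 : c ≠ 0) (hr : k⁻¹ * X'.r c * k ∈ X.Y) {g : G}
    (hg : g ∈ X.Y) : k * g * k⁻¹ ∈ X'.Y := by
  obtain ⟨x, e, q⟩ := Y_cm hg hr
  obtain ⟨x', e', q'⟩ := h.le (cj_mem k (v_V x e))
  refine memY1 c0 ((M_t2 (Y_M hg)).conj k) (fun x e => ?_) (x := x') (e := e') ?_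
  · obtain ⟨_, ⟨a, b, rfl⟩, k⟩ := mem_cj'.1 (h.ge (v_V x e))
    rw [k, cjc, Y_v hg]
  · rw [← q', show X'.r c = k * (k⁻¹ * X'.r c * k) * k⁻¹ by group, cjc, q]; group

theorem sq_M {v : Vc} {e u f : F4} (u0 : u ≠ 0) (h : X.q v e * X.y u * (X.q v e * X.y u) = X.q 0 f) :
    f = 0 ∧ ∃ x b, v = (x, 0, b * u, b) := by
  obtain ⟨_, k⟩ := M_mul (X := X) v v e e u u
  rw [h, aa, X.sd.y0, mul_one, q_eq] at k
  obtain ⟨x, b, rfl⟩ := (by decide : ∀ u v, u ≠ 0 → 0 = v + ym u v → ∃ x b, v = (x, 0, b * u, b)) u v u0 k.1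
  rw [Y_mul, aa u, X.sd.y0, mul_one, q_eq] at h
  exact ⟨h.2.symm.trans (by clear * -; decide +revert), x, b, rfl⟩

theorem np {k : G} (hk : k ∈ 𝐍(X.Z)) {c : F4} (c0 : c ≠ 0) (h : k * X.r c * k⁻¹ ∈ X.P) : k ∈ 𝐍(X.P) := by
  obtain ⟨v, e, q⟩ := h
  obtain ⟨j, hj, q'⟩ := to_r (X := X) e (sq0 (X := X) (by rw [← q, conj_mul, r2 (X.all c)]; simp))
    fun k => nD_q e k (q ▸ (D_r c0).conj _)
  rw [← q, ← cjm] at q'
  refine (mul_mem_cancel_left (CX_N hj)).1 ?_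
  have hZ := mul_mem (centralizer_le_normalizer _ (cz_iff.1 (CX_Z hj))) hk
  generalize j * k = k at q' hZ
  have hL : k ∈ 𝐍(X.L) := St.ti (rK (X.all c)) (.of_sq (r2 (X.all c))) (r_ne (X.all c) c0) (q' ▸ rK X.Φ1)
  obtain ⟨f, hf⟩ := conj_mem_of_mem_normalizer hZ (X.z_Z 1)
  have hT := St.nT hL (e' := f) (by rintro rfl; exact X.z_ne one_ne_zero (by simpa [X.p_zero] using hf)) hf
  refine mem_normalizer_of_cj_le fun _ hg => ?_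
  obtain ⟨_, ⟨v, e, rfl⟩, rfl⟩ := mem_cj'.1 hg
  rw [Su.q, π, cjs, cjs]
  refine mul_mem (mul_mem ?_ ?_) ?_
  · obtain ⟨_, _, _, q⟩ := conj_mem_of_mem_normalizer hT (X.p_T ..); exact q ▸ X.p_P ..
  · obtain ⟨_, q⟩ := cK1 one_ne_zero (X.cK hL (rK (X.all v.2.2.1))) ((T2.of_sq (r2 (X.all _))).conj k) (by
      rw [← q', cjc, (B.of_r (X.all _)).r c (X.all c)]; simp [X.p_zero])
    exact q ▸ X.r_P _
  have hd : ∀ x a e, k * X.d v.2.2.2 * k⁻¹ * X.p x a e * (k * X.d v.2.2.2 * k⁻¹)⁻¹ = X.p x a e := fun x a e => by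
    obtain ⟨_, _, _, q⟩ := conj_mem_of_mem_normalizer (inv_mem hT) (X.p_T x a e)
    rw [← cjv q, inv_inv, cjc, (X.d_A _).t]
  obtain ⟨f', hf'⟩ := conj_mem_of_mem_normalizer hZ (X.z_Z (c * v.2.2.2))
  obtain ⟨x, c', b, e', u, q⟩ := memY1 one_ne_zero ((T2.of_sq (X.d2 v.2.2.2)).conj k) (fun _ _ => hd ..) (by
    rw [← q', cjc, (X.d_A _).r c (X.all c), cjs, hf'])
  have := hd 0 1 0
  rw [q, cjm, ← q_p, ya, q_cj, q_eq] at this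
  obtain rfl : u = 0 := by simpa [ym] using congrArg (·.2.2.2) this.1
  rw [q, X.sd.y0, mul_one]; exact X.q_P ..

theorem npM {k : G} (hk : k ∈ 𝐍(X.Z)) {c : F4} (c0 : c ≠ 0) (h : k * X.r c * k⁻¹ ∈ X.M) : k ∈ 𝐍(X.P) := by
  obtain ⟨v, e, u, q⟩ := h
  by_cases u0 : u = 0
  · exact np hk c0 ⟨v, e, by rw [q, u0, X.sd.y0, mul_one]⟩
  obtain ⟨-, x, b, rfl⟩ := sq_M u0 (f := 0) (by rw [← q, conj_mul, r2 (X.all c), q_one]; simp)
  have hY : k⁻¹⁻¹ * X.r c * k⁻¹ ∈ X.Y := ⟨_, _, _, _, _, by rw [inv_inv, q]⟩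
  have hL : ∀ w : F4 × F4, k⁻¹ * X.p w.1 0 w.2 * k⁻¹⁻¹ ∈ 𝐍(X.L) := fun w => cr (X.all c) c0 (by
    rw [← cji k, ← cjc, show k * (k⁻¹ * X.p w.1 0 w.2 * k⁻¹⁻¹) * k⁻¹ = X.p w.1 0 w.2 by group, mul_inv_eq_iff_eq_mul]
    exact (mul_inv_eq_iff_eq_mul.1 (Y_v (by simpa using hY) ..)).symm)
  have s2 : ∀ w : F4 × F4, k⁻¹ * X.p w.1 0 w.2 * k⁻¹⁻¹ * (k⁻¹ * X.p w.1 0 w.2 * k⁻¹⁻¹) = 1 := fun w => by
    rw [conj_mul, X.v_sq]; simp
  have nD : ∀ w : F4 × F4, ¬ X.D (k⁻¹ * X.p w.1 0 w.2 * k⁻¹⁻¹) := fun w h => St.notD_L (X.p_L ..) h.of_conj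
  have a : ∀ w : F4 × F4, ∀ x a e, (∃ j ∈ 𝐂(X.L), k⁻¹ * X.p w.1 0 w.2 * k⁻¹⁻¹ = X.p x a e * j) →
      k⁻¹ * X.p w.1 0 w.2 * k⁻¹⁻¹ = X.p x a e := fun w x a e ⟨j, hj, q⟩ => by
    obtain ⟨h1, h2⟩ := X.sq_dec (X.p_L ..) hj (q ▸ s2 w)
    obtain rfl : j = 1 := by_contra fun k1 => nD w (q ▸ Dlk (X.p_L ..) h1 hj h2 k1)
    rw [q, mul_one]
  obtain ⟨X', h1, h2, h3⟩ : ∃ X' : Su G, X'.r = X.r ∧ (∀ b, X.d b ∈ X'.Y) ∧ X.V ^ᶜ k⁻¹ = X'.V := by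
    rcases (St.rank (fun w : F4 × F4 => k⁻¹ * X.p w.1 0 w.2 * k⁻¹⁻¹) (fun _ _ => by rw [conj_mul, X.v_mul]; rfl) s2 hL
      (fun w => by
        obtain ⟨f, hf⟩ := conj_mem_of_mem_normalizer hk (X.z_Z 1)
        refine St.nT (hL w) (e := 1) one_ne_zero ?_
        rw [← cjv hf, cjc, X.p_conj]; simp)
      fun w h => by_contra fun w0 => nD w (.of_K h (s2 w) fun q => w0 (by
        have := X.inj _ _ _ (conj_eq_one_iff.1 q); exact Prod.ext this.1 this.2.2))).resolve_left card16 with h | h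
    · exact ⟨X, rfl, fun b => X.q_d b ▸ q_Y .., V_eq fun x e => let ⟨_, _, q⟩ := h (x, e); ⟨_, _, a _ _ _ _ q⟩⟩
    · exact ⟨X.swap, rfl, fun b => X.swap.q_d b ▸ q_Y .., V_eq fun x e =>
        let ⟨_, _, q⟩ := h (x, e); mem_W.2 ⟨_, _, a _ _ _ _ q⟩⟩
  have h4 : ∀ b, b ≠ 0 → ∃ x c b' e, k * X.d b * k⁻¹ = X.q (x, 0, c, b') e * X.y u := fun b' b0 => by
    obtain ⟨x', c', b'', e', u', q'⟩ := tr (X := X') (X' := X) (k := k) (by rw [← h3, cj_inv_cj]) one_ne_zero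
      (by simpa using tr h3 c0 (h1 ▸ hY) (r_Y 1)) (h2 b')
    obtain ⟨f, hf⟩ := conj_mem_of_mem_normalizer hk (X.z_Z (c * b'))
    have f0 : f ≠ 0 := by rintro rfl; exact X.z_ne (mul_ne_zero c0 b0) (by simpa [X.p_zero] using hf)
    have k1 : k * X.d b' * k⁻¹ * (k * X.d b' * k⁻¹) = 1 := by rw [conj_mul, X.d2]; simp
    have k2 : k * X.d b' * k⁻¹ * (k * X.r c * k⁻¹) = k * X.r c * k⁻¹ * X.p 0 0 f * (k * X.d b' * k⁻¹) := by
      rw [← mul_inv_eq_iff_eq_mul, cjc, (X.d_A _).r c (X.all c), cjs, hf]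
    rw [q', Y_mul, aa u', X.sd.y0, mul_one, ← X.q_one, q_eq] at k1
    rw [q', q, ← q_p, ← mul_one (X.q (0, 0, 0, 0) f), ← X.sd.y0, Y_mul, Y_mul, Y_mul, add_zero u, add_comm u,
      mul_left_inj, q_eq] at k2
    obtain rfl : u' = u := by
      have a1 := congrArg Prod.fst k1.1
      have a2 := k1.2
      have a3 := congrArg Prod.fst k2.1
      have a4 := k2.2
      simp only [Prod.fst_zero, mul_zero, zero_mul, add_zero, aa, zero_add, add_comm x x', add_comm e e', add_assoc,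
        add_right_inj] at a1 a2 a3 a4
      clear * - a1 a2 a3 a4 u0 f0; decide +revert +kernel
    exact ⟨_, _, _, _, q'⟩
  obtain ⟨_, _, _, _, k1⟩ := h4 1 (by decide)
  obtain ⟨_, _, _, _, k2⟩ := h4 ω (by decide)
  obtain ⟨_, _, _, _, k3⟩ := h4 ϖ (by decide)
  rw [show X.d ϖ = X.d 1 * X.d ω from (X.d_mul 1 ω).symm, cjs, k1, k2, Y_mul, aa u, X.sd.y0, mul_one,
    ← inv_mul_eq_iff_eq_mul, q_inv, q_mul] at k3
  have := (Ac.y u).uniq (k3 ▸ Ac.of_P (X.q_P ..)) (0, 0, 1, 0)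
  exact absurd (by simpa [ym] using this) u0

end Su

end H10.So
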