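import Cfsg.Agent.Lib.Std.Sz11
import Cfsg.Agent.Lib.StdO.So10

/-! Standard subgroups `L₃(4)` with odd centre, part 11: the Sylow 2-subgroup has order `2¹³`. -/

set_option autoImplicit false
set_option maxRecDepth 100000
set_option synthInstance.maxSize 100000
set_option linter.unusedSectionVars false

namespace H10.So
open H10.Sz
open H69 Subgroup Cfsg
open H30 (F4)
open H10.HeS (T2)

variable {G : Type*} [Group G] [Finite G]

namespace Su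
open H10.So.Hy H10.So.H1
variable {X : Su G}

theorem rr {g : G} {c c' : F4} (c0 : c ≠ 0) (h : g * X.r c * g⁻¹ = X.r c') : g ∈ 𝐍(X.L) :=
  St.ti (rK (X.all c)) (.of_sq (r2 (X.all c))) (r_ne (X.all c) c0) (h ▸ rK (X.all _))
theorem z2 : X.q 0 1 * X.q 0 1 = 1 := by rw [q_z, X.z_sq]
theorem nDz (e : F4) : ¬ X.D (X.q 0 e) := X.q_z e ▸ X.notD e

theorem core {j : G} {c : F4} (c0 : c ≠ 0) (h : j * X.r c * j⁻¹ ∈ X.S) : j⁻¹ * X.q 0 1 * j ∈ X.L := by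
  have s2 : j * X.r c * j⁻¹ * (j * X.r c * j⁻¹) = 1 := by rw [conj_mul, r2 (X.all c)]; simp
  have hD := (D_r (X := X) c0).conj j
  have a : ∀ g c' l, l ∈ X.L → j * X.r c * j⁻¹ = g * X.r c' * g⁻¹ → X.q 0 1 = g * l * g⁻¹ → j⁻¹ * X.q 0 1 * j ∈ X.L :=
    fun g c' l hl a b => by
      have := X.cL (inv_mem (rr (g := g⁻¹ * j) (c' := c') c0 (by rw [cjm, a]; group))) hl
      rw [b]; convert this using 1; group
  rcases mem_S.1 h with ⟨v, e, u, q⟩ | ⟨_, ⟨v, e, u, rfl⟩, q⟩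
  · by_cases u0 : u = 0
    · rw [u0, X.sd.y0, mul_one] at q
      obtain ⟨k, hk, q'⟩ := to_r (X := X) e (sq0 (q ▸ s2)) fun k => nD_q e k (q ▸ hD)
      exact a k⁻¹ 1 _ (X.p_L 0 0 1) (q.trans (cjv q').symm) (by rw [← q_z, CX_Z (inv_mem hk)])
    · obtain ⟨-, x, b, rfl⟩ := sq_M u0 (f := 0) (by rw [← q, s2, q_one])
      obtain ⟨g, c', -, -, k1, ⟨k2, -⟩ | ⟨k2, -⟩⟩ := e16 hD (fun w => X.p w.1 0 w.2) (fun _ _ => (X.v_mul ..).symm)
        (fun _ => X.v_sq ..) (fun w k => Prod.ext (X.inj _ _ _ k).1 (X.inj _ _ _ k).2.2)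
        (fun w => (mul_inv_eq_iff_eq_mul.1 (Y_v ⟨_, _, _, _, _, q⟩ ..)).symm) fun _ => St.notD_L (X.p_L ..) <;>
        exact let ⟨_, _, k⟩ := k2 (0, 1); a g c' _ (X.p_L ..) k1 ((X.q_z 1).trans k)
  · obtain ⟨u0, s⟩ := τ_sl (X := X)
    obtain ⟨w, k1, k2⟩ := (by decide : ∀ u, ∃ w, ym u (ac true true 1 1 w) = w ∧ bf w w = 1) (u + u0)
    obtain ⟨f, k⟩ := (q ▸ s.mul v e u : X.Sl (j * X.r c * j⁻¹) _).fix s2 k1
    have := St.In.sq (Y := X.toSt) (y := j⁻¹ * X.q w f * j⁻¹⁻¹) (cr (X.all c) c0 (by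
      rw [← cji j, ← cjc, show j * (j⁻¹ * X.q w f * j⁻¹⁻¹) * j⁻¹ = X.q w f by group, mul_inv_eq_iff_eq_mul]
      exact (mul_inv_eq_iff_eq_mul.1 k).symm)) ((X.q_t2 ..).conj _)
    rw [conj_mul, q_sq, k2] at this
    simpa using in_z this (by rw [conj_mul, z2]; simp) fun d => nDz 1 d.of_conj

theorem inL {U : Subgroup G} (hU : IsSylowIn 2 U X.N0) (h : X.S ≤ U) {g i : G} (hi : g * i * g⁻¹ = X.q 0 1)
    (hr : ∀ c, i * X.r c * i⁻¹ = X.r c) : i ∈ X.L := by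
  haveI := Fact.mk Nat.prime_two
  obtain ⟨k, hk, a⟩ := ((syl hU h).mono (K := centralizer {X.q 0 1}) (fun _ a => (hU.le a).2) le_top).exists_cj_le
    (isPGroup_cj X.sylR.isP g) fun _ hy => by
      obtain ⟨y, a, rfl⟩ := mem_cj'.1 hy
      obtain ⟨c, -, rfl⟩ := (X.memR y).1 a
      rw [mem_centralizer_singleton_iff, ← hi, conj_mul, conj_mul, mul_inv_eq_iff_eq_mul.1 (hr c)]
  have b : ∀ c, k * g * X.r c * (k * g)⁻¹ ∈ U := fun c => cjm k g _ ▸ a (cj_mem k (cj_mem g (rR (X.all c))))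
  have d : ∀ c s, c ≠ 0 → X.Ty (k * g * X.r c * (k * g)⁻¹) s s → i ∈ X.L := fun c s c0 t => by
    have := core c0 (t.bb hU.isP (h τ_S) (b c))
    rwa [← cz1.1 hk, ← hi, show (k * g)⁻¹ * (k * (g * i * g⁻¹) * k⁻¹) * (k * g) = i by group] at this
  rcases three (hU.le (b 1)) (hU.le (b ω)) with ⟨s, t⟩ | ⟨s, t⟩ | ⟨s, t⟩
  exacts [d _ s (by decide) t, d _ s (by decide) t,
    d ϖ s (by decide) (by rwa [conj_mul, X.r_mul _ _ (X.all _) (X.all _)] at t)]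

theorem odd_ind {g : G} {p : G → Prop} (h : p g) (k : ∀ a, p a → p (a * g * g)) {m : ℕ} (hm : Odd m) : p (g ^ m) := by
  obtain ⟨n, rfl⟩ := hm
  induction n with
  | zero => simpa using h
  | succ n ih => rw [show 2 * (n + 1) + 1 = 2 * n + 1 + 1 + 1 by ring, pow_succ, pow_succ]; exact k _ ih

theorem gam {g : G} (h : X.Ty g true false) : ∃ γ : G, γ * γ = 1 ∧ (∀ c, γ * X.r c * γ⁻¹ = X.r c) ∧ X.Act γ true false 1 1 := by
  obtain ⟨-, u, μ, μ0, a, b⟩ := h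
  obtain ⟨w, hw⟩ := (by decide +kernel : ∀ μ, μ ≠ 0 → ∃ w, ∀ v, wm w (ac true false 1 μ v) = (v.2.1, v.1, v.2.2)) μ μ0
  have a1 := ((Ac.wd w).mul ((Ac.y u).mul a)).congr (K := fun v => (v.2.1, v.1, v.2.2)) fun v => by
    rw [← hw]; congr 1; generalize ac true false 1 μ v = w; clear * -; decide +revert
  have b1 := (CX_Z (wd_CX w)).mul ((Cz.y u).mul b)
  generalize X.wd w * (X.y u * g) = g1 at a1 b1
  obtain ⟨e, q⟩ := a1 (0, 0, 1, 0) 0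
  obtain ⟨m, hm, t⟩ := odd_pow (X.q (0, 0, 0, e) 0 * g1)
  have a2 := (Ac.of_P (X.q_P (0, 0, 0, e) 0)).mul a1
  have b2 := (Cz.of_P (X.q_P (0, 0, 0, e) 0)).mul b1
  have c2 : X.q (0, 0, 0, e) 0 * g1 * X.r 1 * (X.q (0, 0, 0, e) 0 * g1)⁻¹ = X.r 1 := by
    rw [← q_r0, cjm, q, q_cj]; simp [bf, aa]
  obtain ⟨a3, b3, c3⟩ := odd_ind (p := fun g => X.Ac g (fun v => (v.2.1, v.1, v.2.2)) ∧ X.Cz g ∧ g * X.r 1 * g⁻¹ = X.r 1)
    ⟨a2, b2, c2⟩ (fun _ k => ⟨(k.1.mul a2).mul a2, (k.2.1.mul b2).mul b2, by rw [cjm, cjm, c2, c2, k.2.2]⟩) hm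
  generalize (X.q (0, 0, 0, e) 0 * g1) ^ m = g3 at *
  have hL := cr X.Φ1 one_ne_zero c3
  obtain ⟨η, ηL, hη, x, a, f, k⟩ : ∃ η ∈ X.L, (∀ v e, η * X.q v e * η⁻¹ = X.h * X.q v e * X.h⁻¹) ∧
      η * (g3 * η⁻¹ * g3⁻¹) ∈ X.T := by
    have l1 := mul_mem X.h_L (X.cL hL (inv_mem X.h_L))
    obtain ⟨x, a, f, c, hc, k⟩ := X.cenK' l1 one_ne_zero (by
      rw [← mul_inv_eq_iff_eq_mul, cjm, cjm, cjm, ← q_z, cjv (b3 1), inv_inv, q_z, X.h_p', mul_zero, ← q_z, b3, q_z, X.h_p]; rfl)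
    have cL : c ∈ X.L := (mul_mem_cancel_left (X.p_L ..)).1 (k ▸ l1)
    have ho := od_Z cL hc
    rcases X.zi g3 hL c cL hc with i | i
    · have m : X.p x a f * g3 ∈ zpowers g3 ⊔ X.P := mul_mem (mem_sup_right (X.p_P ..)) (mem_sup_left (mem_zpowers _))
      have t1 := T2.of_mem (isPGroup_sup_of_le_normalizer_right t.pg X.isP_P (zpowers_le.2 a3.norm)) m
      have c1 : X.p x a f * g3 * c = c * (X.p x a f * g3) := by
        rw [mul_assoc, mul_inv_eq_iff_eq_mul.1 i, ← mul_assoc, X.pk hc, mul_assoc]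
      have t2 : T2 (X.p x a f * g3 * c) := by
        rw [c1, ← mul_assoc, ← X.pk hc, ← k, show X.h * (g3 * X.h⁻¹ * g3⁻¹) * g3 = X.h * g3 * X.h⁻¹ by group]
        exact t.conj _
      have := (T2.inv t1).mul t2 (by rw [inv_mul_cancel_left, c1, mul_inv_cancel_right])
      rw [inv_mul_cancel_left] at this
      exact ⟨X.h, X.h_L, fun _ _ => rfl, x, a, f, by rw [k, X.LK cL hc this, mul_one]⟩
    · refine ⟨X.h * c, mul_mem X.h_L cL, fun v e => by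
        rw [cjm, mul_inv_eq_iff_eq_mul.2 (X.q_CO v e c ho)], x, a, f, ?_⟩
      rw [show X.h * c * (g3 * (X.h * c)⁻¹ * g3⁻¹) = X.h * (c * (g3 * c * g3⁻¹)⁻¹) * X.h⁻¹ * (X.h * (g3 * X.h⁻¹ * g3⁻¹)) by group,
        i, inv_inv, X.kc (mul_mem hc hc) X.h_L, k, X.pk hc, ← mul_assoc, X.z3 c cL hc, one_mul]
  obtain ⟨x', a', f', k'⟩ : ∃ x' a' f', X.h * X.p x' a' f' * X.h⁻¹ * X.p x a f = X.p x' a' f' := by
    simp only [X.h_p, X.mul, X.p_eq]; clear * -; decide +revert +kernel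
  have a4 := (Ac.of_P (X.p_P x' a' f')).mul a3
  obtain ⟨κ, q⟩ := a4 (0, 0, 0, 1) 0
  have a5 := (Ac.of_P (X.r_P κ)).mul a4
  have b5 := (Cz.of_P (X.r_P κ)).mul ((Cz.of_P (X.p_P x' a' f')).mul b3)
  have t5 : T2 (X.r κ * (X.p x' a' f' * g3)) := .of_mem (isPGroup_sup_of_le_normalizer_right t.pg X.isP_P
    (zpowers_le.2 a3.norm)) (mul_mem (mem_sup_right (X.r_P κ)) (mul_mem (mem_sup_right (X.p_P ..))
      (mem_sup_left (mem_zpowers _))))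
  have h5 : η * (X.r κ * (X.p x' a' f' * g3)) * η⁻¹ = X.r κ * (X.p x' a' f' * g3) := by
    rw [cjs, X.kc (rK (X.all κ)) ηL, cjs, ← q_p, hη, q_p]
    nth_rewrite 2 [← k']
    rw [← k]; group
  have d5 : X.r κ * (X.p x' a' f' * g3) * X.q (0, 0, 0, 1) 0 * (X.r κ * (X.p x' a' f' * g3))⁻¹ = X.q (0, 0, 0, 1) 0 := by
    rw [cjm, q, ← q_r0, q_cj]; simp [bf, aa]
  have L5 := mul_mem (X.KN (rK (X.all κ))) (mul_mem (X.LN (X.p_L x' a' f')) hL)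
  generalize X.r κ * (X.p x' a' f' * g3) = γ at *
  refine ⟨γ, ?_, fun c => ?_, one_ne_zero, one_ne_zero, fun x a e => by simpa [c1, Sz.c2, th, q_p] using a5 (x, a, 0, 0) e,
    fun e => by simpa [th, q_z] using b5 e⟩
  · obtain ⟨v, e, q⟩ := memP2 (a5.mul a5) (t5.mul t5 rfl)
    have k1 : X.h * X.q v e * X.h⁻¹ = X.q v e := by rw [← hη, ← q, cjs, h5]
    have k2 : X.q v e * X.q (0, 0, 0, 1) 0 * (X.q v e)⁻¹ = X.q (0, 0, 0, 1) 0 := by rw [← q, cjm, d5, d5]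
    rw [hq, q_eq] at k1
    rw [q_cj, q_eq] at k2
    obtain ⟨rfl, rfl⟩ : v = 0 ∧ e = 0 := by have := k2.2; clear * - k1 this; decide +revert +kernel
    rw [q, q_one]
  · obtain ⟨f, q⟩ := a5 (0, 0, c, 0) 0
    have := X.cK L5 (rK (X.all c))
    replace q : γ * X.q (0, 0, c, 0) 0 * γ⁻¹ = X.q (0, 0, c, 0) f := q
    rw [q_r0, q_r] at q
    rw [q, mul_mem_cancel_left (rK (X.all c))] at this
    rw [q, (X.pK this).2.2, X.p_zero, mul_one]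

theorem gamD {U : Subgroup G} (hU : IsSylowIn 2 U X.N0) (h : X.S ≤ U) {γ : G} (h2 : γ * γ = 1)
    (hr : ∀ c, γ * X.r c * γ⁻¹ = X.r c) (a : X.Act γ true false 1 1) (g : G) :
    g * γ * g⁻¹ ≠ X.q 0 1 ∧ g * γ * g⁻¹ ≠ X.r 1 := by
  have nL : ∀ c, X.r c * γ ∉ X.L := fun c k => by simpa using (St.act_L' k ((X.act_K (rK (X.all c))).mul a)).1
  have nz : ∀ c g, g * (X.r c * γ) * g⁻¹ ≠ X.q 0 1 := fun c g k => nL c (inL hU h k fun c' => by
    rw [cjm, hr, (B.of_r (X.all c)).r c' (X.all c')]; simp [X.p_zero])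
  refine ⟨by simpa [r0] using nz 0 g, fun k => ?_⟩
  obtain ⟨j, c0, -, h0, q, k⟩ := rankD (St.D.of_conj (k ▸ D_r one_ne_zero : X.D (g * γ * g⁻¹))) (fun w : F4 × F4 => X.q (0, 0, w.1, 0) w.2)
    (fun _ _ => by simp [q_mul, bf]) (fun _ => by simp [q_sq, bf, q_one]) fun w => by
      rw [q_r, eq_comm, ← mul_inv_eq_iff_eq_mul, cjs, hr]; simpa [th] using a.z w.2
  have k1 : ∀ c, c ≠ 0 → ∃ l ∈ X.L, ∃ b, b ≠ 0 ∧ j⁻¹ * X.r c * j = l * X.r b := fun c hc => by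
    obtain ⟨l, hl, k, hk, e⟩ : ∃ l ∈ X.L, ∃ k ∈ 𝐂(X.L), j⁻¹ * X.r c * j = l * k := by
      rcases (k fun ⟨c, e⟩ k => by
        by_cases hc : c = 0
        · subst hc
          by_contra e0
          refine nDz e (St.D.of_conj (y := j⁻¹) (.of_K (by rwa [inv_inv]) (by rw [conj_mul, q_sq]; simp [bf, q_one]) ?_))
          rw [Ne, conj_eq_one_iff, ← X.q_one, q_eq]; exact fun k => e0 (Prod.ext rfl k.2)
        · have k1 : j⁻¹ * X.d (c⁻¹ * e) ∈ 𝐍(X.L) := St.ti (rK (X.all c)) (.of_sq (r2 (X.all c))) (r_ne (X.all c) hc) (by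
            rw [cjm, (X.d_A _).r c (X.all c), ← q_r, inv_inv]; simpa [hc] using k)
          obtain ⟨_, k2⟩ := a.t 1 0 0
          have k3 := conj_eq_of_mem_centralizer (X.cK (inv_mem k1) (rK (X.all c0))) (X.p_L 1 0 0)
          rw [mul_inv_rev, inv_inv, cjm _ j, ← q, cjm, cjm, inv_inv, (X.d_A _).t, k2, mul_assoc, ← (X.d_A _).cm,
            inv_mul_cancel_left, X.p_eq] at k3
          exact absurd k3.1 (by decide)).resolve_left card16 with k | k <;>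
        exact let ⟨_, _, k, hk, e⟩ := k (c, 0); ⟨_, X.p_L .., k, hk, X.q_r0 c ▸ e⟩
    have s0 : l * k * (l * k) = 1 := by rw [← e]; simp [mul_assoc, ← mul_assoc (X.r c), r2 (X.all c)]
    obtain ⟨l, hl, k, hk, tl, -, e'⟩ := X.dec2K hl hk (.of_sq s0)
    rw [e'] at e s0
    have s2 := X.sq_dec hl hk s0 tl
    obtain ⟨b, rfl⟩ := cK1 h0 hk (.of_sq s2.2) (by
      have : l * k * X.r c0 * (l * k)⁻¹ = X.r c0 := by
        rw [← e, ← cji j, ← q, ← cjc, ← q, show j * (j⁻¹ * X.r c * j) * j⁻¹ = X.r c by group, mul_inv_eq_iff_eq_mul]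
        exact (mul_inv_eq_iff_eq_mul.1 (hr c)).symm
      rwa [cjm, ← cji l⁻¹, cjv rfl, X.kc (rK (X.all c0)) (inv_mem hl)] at this)
    exact ⟨l, hl, b, by
      rintro rfl; exact St.notD_L hl (by simpa [e, r0] using (D_r (X := X) hc).conj j⁻¹), e⟩
  obtain ⟨c, l, hl, e⟩ : ∃ c, ∃ l ∈ X.L, j⁻¹ * X.r c * j = l * X.r c0 := by
    obtain ⟨l1, h1, b1, n1, e1⟩ := k1 1 (by decide)
    obtain ⟨l2, h2, b2, n2, e2⟩ := k1 ω (by decide)
    have e3 : j⁻¹ * X.r ϖ * j = l1 * l2 * X.r (b1 + b2) := by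
      rw [← X.r_mul _ _ (X.all _) (X.all _), mul_assoc l1, ← mul_assoc l2, rK (X.all b1) l2 h2, mul_assoc _ l2, ← e2,
        ← mul_assoc l1, ← e1, show X.r ϖ = X.r 1 * X.r ω from (X.r_mul 1 ω (X.all _) (X.all _)).symm]; group
    have n3 : b1 + b2 ≠ 0 := fun k => St.notD_L (mul_mem h1 h2) (by simpa [e3, k, r0] using (D_r (X := X) (c := ϖ) (by decide)).conj j⁻¹)
    rcases (by decide : ∀ a b c : F4, a ≠ 0 → b ≠ 0 → a + b ≠ 0 → c ≠ 0 → c = a ∨ c = b ∨ c = a + b) b1 b2 c0 n1 n2 n3 h0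
      with rfl | rfl | rfl
    exacts [⟨_, _, h1, e1⟩, ⟨_, _, h2, e2⟩, ⟨_, _, mul_mem h1 h2, e3⟩]
  have e' : j⁻¹ * (X.r c * γ) * j⁻¹⁻¹ = l := by
    rw [q, ← mul_inv_cancel_right l (X.r c0), ← e, r_inv (X.all c0)]; group
  obtain ⟨k, -, e''⟩ := X.cls l hl (by
    rw [← e', conj_mul, mul_assoc (X.r c), ← mul_assoc γ, mul_inv_eq_iff_eq_mul.1 (hr c), mul_assoc _ γ γ, h2, mul_one,
      r2 (X.all c)]; simp) fun k => nL c (by rw [conj_eq_one_iff.1 (e'.trans k)]; exact one_mem _)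
  exact nz c (k⁻¹ * j⁻¹) (by rw [cjm, e', q_z]; exact cjv e'')

variable [IsSimpleGroup G]

theorem S_syl : IsSylowIn 2 X.S ⊤ := by
  haveI := Fact.mk Nat.prime_two
  obtain ⟨U, hU, h⟩ := exists_isSylowIn_le isP_S (S_N0 (X := X))
  have key : ∀ g ∈ U, ¬ X.Ty g true false := fun g hg t => by
    obtain ⟨γ, h2, hr, a⟩ := gam t
    obtain ⟨b, k⟩ := S_ty (H10.Std.transfer_inv X.perf (H := U) (N := X.S) (relIndex_top_right U ▸ (syl hU h).not_dvd_relIndex)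
      (fun a ha b hb => by
        obtain ⟨s, f, k⟩ := Ty.ex (hU.le hb)
        exact M_S (Ty.ff (by simpa using (k.cj (hU.le ha)).mul k.inv)
          (.of_mem hU.isP (mul_mem (mul_mem (mul_mem ha hb) (inv_mem ha)) (inv_mem hb)))))
      h2 hg ((t.mul t).bb hU.isP (h τ_S) (mul_mem hg hg)) fun j hj => by
        obtain ⟨s, f, k⟩ := Ty.ex (hU.le hj)
        by_cases e : s = f
        · subst e
          obtain ⟨k, -, q⟩ := invS (k.bb hU.isP (h τ_S) hj) (by rw [conj_mul, h2]; simp) fun q => by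
            obtain ⟨_, k⟩ := a.t 1 0 0
            rw [conj_eq_one_iff.1 q, one_mul, inv_one, mul_one, X.p_eq] at k
            exact absurd k.1 (by decide)
          rw [← cjm] at q
          exact q.elim (fun q => absurd q (gamD hU h h2 hr a _).1) fun q => absurd q (gamD hU h h2 hr a _).2
        · exact Ty.bb (b := f) (by convert k.mul t.inv <;> revert e <;> cases s <;> cases f <;> simp) hU.isP (h τ_S)
            (mul_mem hj (inv_mem hg)))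
    have := k.uniq t
    simp_all
  refine (le_antisymm h fun g hg => ?_) ▸ syl hU h
  obtain ⟨s, f, k⟩ := Ty.ex (hU.le hg)
  cases s <;> cases f
  exacts [k.bb hU.isP (h τ_S) hg, absurd (k.mul τ_ty) (key _ (mul_mem hg (h τ_S))), absurd k (key g hg),
    k.bb hU.isP (h τ_S) hg]

theorem toS {H : Subgroup G} (h : X.S ≤ H) {g : G} (hg : g ∈ H) (t : T2 g) : ∃ k ∈ H, k * g * k⁻¹ ∈ X.S :=
  haveI := Fact.mk Nat.prime_two
  let ⟨k, hk, a⟩ := (S_syl.mono h le_top).exists_cj_le t.pg (zpowers_le.2 hg); ⟨k, hk, a (cj_mem k (mem_zpowers g))⟩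
theorem Ty.eq {g : G} {s f : Bool} (h : X.Ty g s f) : s = f := by
  obtain ⟨m, hm, t⟩ := odd_pow g
  have k := odd_ind (p := fun a => X.Ty a s f) h (fun _ k => by simpa using (k.mul h).mul h) hm
  obtain ⟨j, hj, a⟩ := toS S_N0 k.1 t
  obtain ⟨b, a⟩ := S_ty a
  obtain ⟨rfl, rfl⟩ := a.uniq (k.cj hj)
  rfl
theorem N0_S {g : G} (h : g ∈ X.N0) (t : T2 g) : g ∈ X.S := by
  obtain ⟨s, f, k⟩ := Ty.ex h
  obtain rfl := k.eq
  cases s
  · exact M_S (k.ff t)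
  obtain ⟨v, e, u', q⟩ := (k.mul k).ff (t.mul t rfl)
  obtain ⟨-, u, μ, μ0, a, -⟩ := k
  obtain ⟨u0, b, -⟩ := τ_sl (X := X)
  obtain rfl : μ = 1 := by
    have := (a.mul a).uniq (q ▸ (Ac.of_P (X.q_P v e)).mul (Ac.y u')) (0, 0, 0, 1)
    clear * - this μ0; decide +revert
  obtain ⟨v, e, o, ho, q⟩ := memP ((((Ac.y (u + u0)).mul a).mul b).congr fun v => by clear * -; decide +revert +kernel)
  have m := mul_mem (M_S (mul_mem (y_M (u + u0)) (P_M (X.q_P v e)))) (τ_S (X := X))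
  have : g = X.y (u + u0) * X.q v e * X.τ * o := by
    rw [mul_assoc _ _ o, ← τ_CO o ho, ← mul_assoc, mul_assoc _ _ o, ← q, ← mul_assoc, ← mul_assoc, X.sd.y2, one_mul,
      mul_assoc, τ2, mul_one]
  rwa [this, od_one (S_CO m) (.of_mem isP_S m) ho (this ▸ t), mul_one]
theorem τ_sl0 : X.Sl X.τ 0 := by
  obtain ⟨u, s⟩ := τ_sl (X := X)
  by_contra n
  obtain ⟨v, k1, k2, k3⟩ := (by decide : ∀ u, u ≠ 0 → ∃ v, ym u (ac true true 1 1 v) = v ∧ bf v v = 0 ∧ ¬ dg v) u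
    (by rintro rfl; exact n s)
  obtain ⟨e, q⟩ := s.fix τ2 k1
  obtain ⟨k, hk, q'⟩ := to_r (X := X) e k2 k3
  obtain ⟨l, -, a⟩ := X.cls _ (X.p_L 1 0 0) (X.v_sq ..) (by simp [X.p_one])
  have a1 : (k * X.k0 * l)⁻¹ * (k * X.τ * k⁻¹) * (k * X.k0 * l)⁻¹⁻¹ = X.q 0 1 := cjv (by rw [cjm, cjm, q_z, a, τ])
  obtain ⟨j, hj, b⟩ := toS (H := centralizer {X.q 0 1}) (fun _ a => (S_N0 a).2) (g := (k * X.k0 * l)⁻¹ * X.r 1 * (k * X.k0 * l)⁻¹⁻¹)
    (by rw [mem_centralizer_singleton_iff, ← a1, conj_mul, conj_mul, ← q', conj_mul, conj_mul, mul_inv_eq_iff_eq_mul.1 q])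
    ((T2.of_sq (r2 X.Φ1)).conj _)
  have := core one_ne_zero (cjm j _ _ ▸ b)
  rw [← cz1.1 hj, ← a1, show ∀ a b : G, (j * a)⁻¹ * (j * (a * b * a⁻¹) * j⁻¹) * (j * a) = b by intros; group] at this
  have c : ∀ e, k * X.τ * k⁻¹ * X.q 0 e * (k * X.τ * k⁻¹)⁻¹ = X.q 0 (e * e) := fun e => by
    rw [cjm, cjm, CX_Z (inv_mem hk), τ_z, CX_Z hk]
  obtain ⟨x, a, e, d⟩ := X.cen _ this (by simpa only [mul_one, q_z, mul_inv_eq_iff_eq_mul] using c 1)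
    ((T2.of_sq τ2).conj k)
  have := c ω
  rw [d, Cz.of_P (X.p_P ..), q_eq] at this
  exact absurd this.2 (by decide)
theorem S_M {g : G} (h : g ∈ X.S) (k : X.Cz g) : g ∈ X.M := by
  obtain ⟨b, t⟩ := S_ty h
  obtain rfl := t.cz k
  exact t.ff (.of_mem isP_S h)
theorem M_syl : IsSylowIn 2 X.M 𝐂(X.Z) := by
  haveI := Fact.mk Nat.prime_two
  have := (S_syl.mono (fun _ a => P_Z (S_N0 (X := X) a).1.1) le_top).inf_normal (centralizer_le_normalizer _)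
    (normalizer_le_normalizer_centralizer _)
  rwa [show X.S ⊓ 𝐂(X.Z) = X.M from le_antisymm (fun _ a => S_M a.1 (cz_iff.2 a.2))
    fun _ a => ⟨M_S a, cz_iff.1 (CX_Z (M_CX a))⟩] at this

end Su

end H10.So
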