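import Cfsg.Agent.Lib.Std.Sz14
import Cfsg.Agent.Lib.StdO.So13

/-! Standard subgroups `L₃(4)` with odd centre, part 14: the centraliser of `z` normalises `Q`. -/

set_option autoImplicit false
set_option maxRecDepth 100000
set_option synthInstance.maxSize 100000
set_option linter.unusedSectionVars false

namespace H10.So
open H10.Sz
open H69 Subgroup Cfsg
open H30 (F4)
open H10.HeS (T2)

variable {G : Type*} [Group G] [Finite G]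

variable [IsSimpleGroup G]

namespace Su
open H10.So.Hy H10.So.H1
variable {X : Su G}

theorem zs {e : F4} : X.q 0 e ∈ zpowers (X.q 0 1) ↔ e = 0 ∨ e = 1 := by
  rw [H95.mem_zpowers_iff_of_sq z2, ← X.q_one, q_eq, q_eq]; simp
theorem zs' {g : G} (h : g ∈ zpowers (X.q 0 1)) : g = X.q 0 0 ∨ g = X.q 0 1 := by
  rwa [H95.mem_zpowers_iff_of_sq z2, ← X.q_one] at h
theorem Hz {g : G} (h : g ∈ centralizer {X.q 0 1}) : g ∈ 𝐍(zpowers (X.q 0 1)) := cz_nz h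
theorem τ_P : X.τ ∉ X.P := fun h => absurd (X.q_eq.1 ((τ_z ω).symm.trans (Cz.of_P h ω))).2 (by decide)
theorem qQ {v : Vc} {e : F4} (h : X.q v e ∈ X.Q) : tau v = v := by
  rcases mem_Q.1 h with ⟨w, f, a, b⟩ | ⟨_, ⟨w, f, a, rfl⟩, b⟩
  · exact (X.q_eq.1 b).1 ▸ a
  · exact absurd ((mul_mem_cancel_left (X.q_P w f)).1 (b ▸ X.q_P v e)) τ_P
theorem Q_H : X.Q ≤ centralizer {X.q 0 1} := Q_S.trans S_H
theorem τ_q {v : Vc} (h : tau v = v) (e : F4) : ∃ d, (d = 0 ∨ d = 1) ∧ X.τ * X.q v e * X.τ⁻¹ = X.q v (e + d) := by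
  obtain ⟨f, q⟩ := τ_sl0.fix (X := X) τ2 ((ym0 _).trans h)
  exact ⟨f + e + (f + e) * (f + e), by clear * -; decide +revert, by
    rw [← aa' f e, ← qz, cjs, q, τ_z, qz, aa']; congr 1; clear * -; decide +revert⟩
theorem cmQ {x y : G} (hx : x ∈ X.Q) (hy : y ∈ X.Q) : x * y * x⁻¹ * y⁻¹ ∈ zpowers (X.q 0 1) := by
  have sw : ∀ {a b : G}, a * b * a⁻¹ * b⁻¹ ∈ zpowers (X.q 0 1) → b * a * b⁻¹ * a⁻¹ ∈ zpowers (X.q 0 1) :=
    fun h => by convert inv_mem h using 1; group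
  have a : ∀ v e, tau v = v → X.τ * X.q v e * X.τ⁻¹ * (X.q v e)⁻¹ ∈ zpowers (X.q 0 1) := fun v e h => by
    obtain ⟨d, h1, h2⟩ := τ_q (X := X) h e
    rw [h2, ← zq, mul_inv_cancel_right, zs]; exact h1
  refine (Q_le (U := cmz _ x) ⟨Q_H τ_Q, sw (Q_le (U := cmz _ X.τ) ⟨Q_H τ_Q, by simp⟩
    (fun v e h => ⟨Q_H (q_Q h e), a v e h⟩) hx).2⟩ (fun v e h => ⟨Q_H (q_Q h e), sw (Q_le (U := cmz _ (X.q v e))
      ⟨Q_H τ_Q, sw (a v e h)⟩ (fun w f k => ⟨Q_H (q_Q k f), ?_⟩) hx).2⟩) hy).2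
  rw [q_cj, ← zq, mul_inv_cancel_right, zs]
  clear * - h k; decide +revert +kernel
theorem cjQ {x y : G} (hx : x ∈ X.Q) (hy : y ∈ X.Q) : x * y * x⁻¹ = y ∨ x * y * x⁻¹ = X.q 0 1 * y := by
  simpa [q_one, mul_inv_eq_iff_eq_mul] using zs' (cmQ hx hy)
theorem cenQ {g : G} (h : g ∈ 𝐂(X.Q)) : ∃ e o, (e = 0 ∨ e = 1) ∧ X.Od o ∧ g = X.q 0 e * o := by
  have c : ∀ a ∈ X.Q, g * a * g⁻¹ = a := fun a ha => conj_eq_of_mem_centralizer h ha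
  have hz : X.Cz g := fun e => c _ (q_Q (by decide) e)
  obtain ⟨F, a⟩ := Ac.ex (CZ_N (cz_iff.1 hz))
  obtain ⟨v, e, o, ho, rfl⟩ := memP (a.congr fun v => tau_nd v _ fun w hw => by
    obtain ⟨f, b⟩ := a v 0
    have := cjc g (X.q w 0) (X.q v 0)
    rw [c _ (q_Q hw 0), b, q_cj, q_cj, ← qz X v 0, cjs, b, hz, qz, q_eq, add_right_inj] at this
    exact this.2)
  have c' : ∀ a ∈ X.Q, X.q v e * a * (X.q v e)⁻¹ = a := fun a ha => by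
    rw [← conj_eq_of_mem_centralizer (od_Q ho) ha, ← cjm, c a ha, conj_eq_of_mem_centralizer (od_Q ho) ha]
  obtain rfl : v = 0 := tau_nd 0 v fun w hw => by
    have := c' _ (q_Q hw 0)
    rw [q_cj, q_eq] at this
    simpa [bf, add_comm] using this.2
  have := τ_z (X := X) e
  rw [← mul_inv_eq_iff_eq_mul.1 (c' _ τ_Q), mul_inv_cancel_right, q_eq] at this
  exact ⟨e, o, by have := this.2; clear * - this; decide +revert, ho, rfl⟩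
theorem Gz.tr {i : G} (h : X.Gz i) (hS : i ∈ X.S) : ∃ j ∈ centralizer {X.q 0 1} ⊓ 𝐍(X.Q), j * i * j⁻¹ = X.q 0 ω := by
  have a : X.CX ≤ centralizer {X.q 0 1} ⊓ 𝐍(X.Q) := le_inf CX_H CX_Q
  have b : X.k0⁻¹ ∈ centralizer {X.q 0 1} ⊓ 𝐍(X.Q) := inv_mem ⟨cz1.2 k0_z, k0_Q⟩
  obtain ⟨k, hk, q | q | q | q⟩ := h.cases hS
  · exact ⟨k, a hk, q⟩
  · exact ⟨_, mul_mem ⟨S_H τ_S, S_Q τ_S⟩ (a hk), by rw [cjm, q, τ_z]; rfl⟩
  · exact ⟨_, mul_mem b (a hk), by rw [cjm, q, cjv k0_t]⟩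
  · exact ⟨_, mul_mem b (mul_mem (a (P_CX (X.p_P 0 ω 0))) (mul_mem b (a hk))), by
      rw [cjm, cjm, cjm, q, τ, cjv rfl, w_v, zero_add, cjv k0_t]⟩
theorem topS {a : G} (h : a ∈ X.S) (n : a ∉ X.Q) (k : ∀ t ∈ X.S, a * t * a⁻¹ * t⁻¹ ∈ X.Q) :
    ∃ b ∈ X.Q, a = X.p ω 0 0 * b := by
  have key : ∀ a ∈ X.M, a ∉ X.Q → (∀ t ∈ X.S, a * t * a⁻¹ * t⁻¹ ∈ X.Q) → ∃ b ∈ X.Q, a = X.p ω 0 0 * b := by
    rintro _ ⟨v, e, u, rfl⟩ n k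
    have a := k _ (M_S (P_M (X.q_P (0, ω, 0, 0) 0)))
    rw [cjm, ya, q_cj, q_inv, q_mul] at a
    obtain rfl : u = 0 := by have := qQ a; clear * - this; decide +revert
    rw [X.sd.y0, mul_one] at *
    rcases (by decide +kernel : ∀ v, (∀ u, tau (v + ym u v) = v + ym u v) → tau v = v ∨
      tau ((ω, 0, 0, 0) + v) = (ω, 0, 0, 0) + v) v fun u => by
        have := k _ (M_S (y_M u))
        rw [q_inv, mul_assoc, mul_assoc, ← mul_assoc (X.y u), ya, q_mul] at this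
        exact qQ this with b | b
    · exact absurd (q_Q b e) n
    · exact ⟨_, q_Q b e, by rw [← q_p, q_mul, ← add_assoc, vv]; simp [bf]⟩
  rcases mem_S.1 h with h | ⟨m, hm, rfl⟩
  · exact key a h n k
  · obtain ⟨b, hb, q⟩ := key m hm (fun a => n (mul_mem a τ_Q)) fun t ht => by
      have := mul_mem (inv_mem (conj_mem_of_mem_normalizer (S_Q (M_S hm)) (mul_mem τ_Q
        (conj_mem_of_mem_normalizer (S_Q ht) (inv_mem τ_Q))))) (k t ht)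
      convert this using 1; group
    exact ⟨_, mul_mem hb τ_Q, by rw [q, mul_assoc]⟩

theorem dih {N : Subgroup G} (h1 : N ≤ centralizer {X.q 0 1} ⊓ 𝐍(X.Q))
    (h3 : ∀ y ∈ centralizer {X.q 0 1} ⊓ 𝐍(X.Q), ∀ n ∈ N, y * n * y⁻¹ ∈ N) (h4 : ∀ n ∈ N, T2 n → n ∈ X.Q)
    {n : G} (hn : n ∈ N) (e : n * X.q 0 ω * n⁻¹ = X.p 1 0 ω) : False := by
  have rS := M_S (P_M (X.r_P 1))
  have ri := r_inv X.Φ1
  have m0 : X.r 1 * (n * X.r 1 * n⁻¹) ∈ N := by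
    simpa [ri, mul_assoc] using mul_mem (h3 _ ⟨S_H rS, S_Q rS⟩ n hn) (inv_mem hn)
  obtain ⟨_, ⟨j, rfl⟩, t⟩ := odd_pow (X.r 1 * (n * X.r 1 * n⁻¹))
  have a := h4 _ (pow_mem m0 _) t
  have i0 : X.r 1 * (X.r 1 * (n * X.r 1 * n⁻¹)) * (X.r 1)⁻¹ = (X.r 1 * (n * X.r 1 * n⁻¹))⁻¹ := by
    rw [← mul_assoc, r2 X.Φ1, one_mul, mul_inv_rev, conj_inv, ri]
  have i1 : (X.r 1 * (n * X.r 1 * n⁻¹))⁻¹ * X.r 1 = n * X.r 1 * n⁻¹ := by rw [← i0, ri, mul_assoc, r2 X.Φ1, mul_one,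
    ← mul_assoc, r2 X.Φ1, one_mul]
  generalize X.r 1 * (n * X.r 1 * n⁻¹) = m at *
  have i2 : X.r 1 * m ^ j * (X.r 1)⁻¹ = (m ^ j)⁻¹ := by rw [← conj_pow, i0, inv_pow]
  have gN := h1 (mul_mem (inv_mem (pow_mem m0 j)) hn)
  obtain ⟨a', ha', g1⟩ : ∃ a' ∈ X.Q, (m ^ j)⁻¹ * n * X.r 1 * ((m ^ j)⁻¹ * n)⁻¹ = a' * X.r 1 :=
    ⟨(m ^ (2 * j + 1))⁻¹, inv_mem a, by
      rw [cjm, ← i1, inv_inv, mul_assoc, mul_assoc, mul_inv_eq_iff_eq_mul.1 i2, two_mul, pow_succ, pow_add]; group⟩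
  obtain ⟨f, g2⟩ : ∃ f, (m ^ j)⁻¹ * n * X.q 0 ω * ((m ^ j)⁻¹ * n)⁻¹ = X.q 0 f := by
    have b := conj_mem_of_mem_normalizer gN.2 (q_Q (v := (0, 0, ϖ, ω)) (by decide) 0)
    have s := (Gz.cj ⟨1, one_mem _, by simp⟩ gN.1 : X.Gz (_ * X.q 0 ω * _)).sq
    have c : X.q 0 ω = X.q (0, 0, ϖ, ω) 0 * X.r 1 * (X.q (0, 0, ϖ, ω) 0)⁻¹ * (X.r 1)⁻¹ := by
      rw [← q_r0, q_cj, q_inv, q_mul, q_eq]; decide
    rw [c, cjs, cjs, cjs, ← conj_inv, ← conj_inv, g1] at s ⊢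
    generalize (m ^ j)⁻¹ * n * X.q (0, 0, ϖ, ω) 0 * ((m ^ j)⁻¹ * n)⁻¹ = b' at *
    obtain ⟨w, f, hw, d⟩ : ∃ w f, (w = 0 ∨ w = (0, 0, 1, 1)) ∧ b' * X.r 1 * b'⁻¹ * (X.r 1)⁻¹ = X.q w f := by
      rcases mem_Q.1 b with ⟨v, e, -, rfl⟩ | ⟨_, ⟨v, e, -, rfl⟩, rfl⟩
      · exact ⟨_, _, .inl (vv _), by rw [← q_r0, q_cj, q_inv, q_mul]⟩
      · obtain ⟨f, k⟩ := τ_ac (X := X) (0, 0, 1, 0) 0
        exact ⟨tau (0, 0, 1, 0) + (0, 0, 1, 0), _, .inr (by decide), by rw [← q_r0, cjm, k, q_cj, q_inv, q_mul]⟩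
    have wQ : X.q w f ∈ X.Q := q_Q (by rcases hw with rfl | rfl <;> decide) f
    obtain ⟨f', k⟩ : ∃ f', b' * (a' * X.r 1) * b'⁻¹ * (a' * X.r 1)⁻¹ = X.q w f' := by
      rw [show b' * (a' * X.r 1) * b'⁻¹ * (a' * X.r 1)⁻¹ = b' * a' * b'⁻¹ * a'⁻¹ *
        (a' * (b' * X.r 1 * b'⁻¹ * (X.r 1)⁻¹) * a'⁻¹) by group, d]
      rcases zs' (cmQ b ha') with k | k <;> rcases cjQ ha' wQ with k' | k' <;> exact ⟨_, by simp only [k, k', zq]; rfl⟩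
    rw [k] at s ⊢
    rcases hw with rfl | rfl
    exacts [⟨_, rfl⟩, absurd (sq0 s) (by decide)]
  have f0 : ¬ (f = 0 ∨ f = 1) := fun k => by
    have := conj_mem_of_mem_normalizer (inv_mem (Hz gN.1)) (zs.2 k)
    rw [cjv g2] at this
    exact absurd (zs.1 this) (by decide)
  rw [cjm, e] at g2
  have g3 : m ^ j * m ^ j * X.q 0 f * (m ^ j * m ^ j)⁻¹ = X.q 0 f := by
    have := cjc (X.r 1) (m ^ j)⁻¹ (X.p 1 0 ω)
    rw [g2, show X.r 1 * (m ^ j)⁻¹ * (X.r 1)⁻¹ = m ^ j by rw [← conj_inv, i2, inv_inv],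
      conj_eq_of_mem_centralizer (rK X.Φ1) (X.p_L ..), Cz.of_P (X.r_P 1)] at this
    rw [cjm]
    nth_rewrite 1 [← g2]
    rw [← this]; group
  have mH := h1 (mul_mem (pow_mem m0 j) (pow_mem m0 j))
  have g4 : X.Cz (m ^ j * m ^ j) := cz_of mH.1 (by
    rcases cas f with rfl | rfl | rfl | rfl
    exacts [absurd (.inl rfl) f0, absurd (.inr rfl) f0, g3, by
      rw [show X.q 0 ω = _ from (X.qz 0 ϖ 1).symm, cjs, g3, cz1.1 mH.1]])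
  have g5 : m ∈ 𝐍(X.Z) := by
    have := mul_mem (inv_mem (centralizer_le_normalizer _ (cz_iff.1 g4))) (P_Z (S_N0 (Q_S a)).1.1)
    rwa [two_mul, pow_succ, pow_add, inv_mul_cancel_left] at this
  have := conj_mem_of_mem_normalizer (pow_mem g5 j) (mem_Z.2 ⟨f, rfl⟩)
  rw [← g2, show m ^ j * ((m ^ j)⁻¹ * X.p 1 0 ω * (m ^ j)⁻¹⁻¹) * (m ^ j)⁻¹ = X.p 1 0 ω by group, ← q_p] at this
  exact absurd (qZ this) (by decide)

theorem H_Q : centralizer {X.q 0 1} ≤ 𝐍(X.Q) := by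
  have sH : X.S ≤ centralizer {X.q 0 1} ⊓ 𝐍(X.Q) := le_inf S_H S_Q
  have cx : X.CX ≤ centralizer {X.q 0 1} ⊓ 𝐍(X.Q) := le_inf CX_H CX_Q
  have gz : ∀ {x}, x ∈ centralizer {X.q 0 1} → X.Gz (x * X.q 0 ω * x⁻¹) := fun h => ⟨_, h, rfl⟩
  have k0 : X.k0 ∈ centralizer {X.q 0 1} ⊓ 𝐍(X.Q) := ⟨cz1.2 k0_z, k0_Q⟩
  have cz : ∀ s ∈ 𝐍(X.Z), s ∈ centralizer {X.q 0 1} → s * X.q 0 ω * s⁻¹ * (X.q 0 ω)⁻¹ ∈ zpowers (X.q 0 1) :=
    fun s h1 h2 => by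
      obtain ⟨f, q⟩ := mem_Z.1 (conj_mem_of_mem_normalizer h1 (mem_Z.2 ⟨ω, rfl⟩))
      have : ¬ (f = 0 ∨ f = 1) := fun k => by
        have := conj_mem_of_mem_normalizer' (Hz h2) (q ▸ zs.2 k)
        simp only [mul_assoc, inv_mul_cancel_left, inv_mul_cancel, mul_one] at this
        exact absurd (zs.1 this) (by decide)
      rw [q, q_inv, qz, zs]; clear * - this; decide +revert
  refine top2 (Z := zpowers (X.q 0 1)) (t := X.q 0 ω) (fun _ => Hz) (zpowers_le.2 (q_Q (by decide) 1))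
    (fun _ h => by rcases zs' h with rfl | rfl; exacts [by simp [q_one], z2]) Q_H (q_Q (by decide) ω) (fun a ha => ?_)
    (fun x hx h => ?_) (.inr fun y hy t => ?_) k0 (mul_mem (cx (P_CX (X.p_P 0 ω 0))) k0)
    (by rw [cjm, k0_t, w_v, q_z, X.z_mul]) (fun h => absurd (zs.1 h) (by decide)) fun N h1 h2 h3 => ?_
  · rcases mem_Q.1 ha with ⟨v, e, k, rfl⟩ | ⟨_, ⟨v, e, k, rfl⟩, rfl⟩
    · rw [q_sq, zs]; clear * - k; decide +revert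
    · obtain ⟨d, h1, h2⟩ := τ_q (X := X) k e
      rw [τ_inv] at h2
      rw [mul_assoc, ← mul_assoc X.τ, h2, q_mul, vv, aa', zs]; clear * - k h1; decide +revert +kernel
  · obtain ⟨k, hk, q⟩ := toS sH (mem_inf.2 ⟨mul_mem (mul_mem hx (Q_H (q_Q (by decide) ω))) (inv_mem hx), h⟩) ((X.q_t2 ..).conj x)
    obtain ⟨j, hj, q'⟩ := ((gz hx).cj hk.1).tr q
    rw [mem_inf] at hj hk
    exact (mul_mem_cancel_left (mul_mem hj.2 hk.2)).1 (CZ_Q (cz_of (mul_mem (mul_mem hj.1 hk.1) hx) (by rw [cjm, cjm, q'])))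
  · obtain ⟨k, hk, q⟩ := toS sH hy t
    refine ⟨k⁻¹, inv_mem hk, ?_⟩
    convert conj_mem_of_mem_normalizer' (Hz hk.1) (inv_mem (cz _ (P_Z (S_N0 q).1.1) (S_H q))) using 1; group
  by_cases ex : ∃ n ∈ N, T2 n ∧ n ∉ X.Q
  · obtain ⟨n, hn, t, nQ⟩ := ex
    obtain ⟨k, hk, q⟩ := toS sH (h1 hn) t
    obtain ⟨a, ha, b, c⟩ := grow (C := N ⊓ X.S) (U := X.Q) isP_S isP_S.to_inf_right (le_normalizer_inf
      (fun s hs => mem_normalizer_fintype (h3 s (sH hs))) le_normalizer) fun l => nQ (by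
        simpa [mul_assoc] using conj_mem_of_mem_normalizer' hk.2 (l ⟨h3 k hk n hn, q⟩))
    obtain ⟨b, hb, rfl⟩ := topS ha.2 b c
    exact .inr ⟨_, (mul_mem_cancel_right (h2 hb)).1 ha.1, X.v_sq .., _, X.q_p 0 1 0 ▸ q_Q (by decide) 0, fun k => by
      rw [St.cm_p, ← q_z, zs] at k; exact absurd k (by decide)⟩
  push Not at ex
  have D0 : ∀ n ∈ N, n * X.q 0 ω * n⁻¹ ∈ X.Z ∨ ∃ k ∈ X.CX, k * (n * X.q 0 ω * n⁻¹) * k⁻¹ = X.τ := fun n hn => by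
    obtain ⟨k, hk, q | q | q | q⟩ := (gz (h1 hn).1).cases (Q_S (conj_mem_of_mem_normalizer (h1 hn).2 (q_Q (by decide) ω)))
    · exact .inl (mem_Z.2 ⟨_, (cjv q).symm.trans (CX_Z (inv_mem hk) _)⟩)
    · exact .inl (mem_Z.2 ⟨_, (cjv q).symm.trans (CX_Z (inv_mem hk) _)⟩)
    · exact (dih h1 h3 ex (h3 k (cx hk) n hn) (by rw [← q, ← CX_Z hk ω, cjc, CX_Z hk])).elim
    · exact .inr ⟨k, hk, q⟩
  have D1 : ∀ n ∈ N, n ∈ 𝐍(X.Z) := fun n hn => by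
    rcases D0 n hn with k | ⟨k, hk, q⟩
    · obtain ⟨f, q⟩ := mem_Z.1 k
      have hz := cz1.1 (h1 hn).1
      exact nZ (F4.forall_iff.2 ⟨⟨0, by simp [q_one]⟩, ⟨_, hz⟩, ⟨_, q⟩, ⟨f + 1, by
        rw [show X.q 0 ϖ = _ from (X.qz 0 ω 1).symm, cjs, q, hz, qz]⟩⟩)
    exfalso
    have hn' := h3 k (cx hk) n hn
    rw [← CX_Z (inv_mem hk) ω, show k * (n * (k⁻¹ * X.q 0 ω * k⁻¹⁻¹) * n⁻¹) * k⁻¹ =
      k * n * k⁻¹ * X.q 0 ω * (k * n * k⁻¹)⁻¹ by group] at q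
    generalize k * n * k⁻¹ = n at hn' q
    have a : n⁻¹ * (X.p ω 0 0 * n * (X.p ω 0 0)⁻¹) * X.q 0 ω * (n⁻¹ * (X.p ω 0 0 * n * (X.p ω 0 0)⁻¹))⁻¹ =
        n⁻¹ * X.p 1 0 ω * n⁻¹⁻¹ * X.q 0 ω := by
      rw [cjm, cjm, cjm, Cz.of_P (inv_mem (X.p_P ..)), q, X.v_inv, mul_assoc _ X.τ, ← inv_mul_cancel_right (X.τ * _) X.τ,
        τ_v, ← mul_assoc (X.p ..), X.v_mul, cjs, cjv q]; rfl
    have c : n⁻¹ * X.p 1 0 ω * n⁻¹⁻¹ * X.q 0 ω = X.q 0 ω * (n⁻¹ * X.p 1 0 ω * n⁻¹⁻¹) := by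
      rw [← cjv q, conj_mul, conj_mul, cji, eq_comm, ← mul_inv_eq_iff_eq_mul, τ_v]; rfl
    rcases D0 _ (mul_mem (inv_mem hn') (h3 _ (cx (P_CX (X.p_P ω 0 0))) n hn')) with k | ⟨k, hk, b⟩
    · rw [a, mul_mem_cancel_right (mem_Z.2 ⟨_, rfl⟩)] at k
      obtain ⟨e, k⟩ := mem_Z.1 k
      have k1 : X.p 1 0 ω = n * X.q 0 e * n⁻¹ := by rw [← k]; group
      have hz := cz1.1 (h1 hn').1
      rcases cas e with rfl | rfl | rfl | rfl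
      · rw [q_one, mul_one, mul_inv_cancel, X.p_one] at k1; exact absurd k1.1 (by decide)
      · rw [hz, q_z, X.p_eq] at k1; exact absurd k1.1 (by decide)
      · exact τ_P (q ▸ k1 ▸ X.p_P ..)
      · rw [show X.q 0 ϖ = _ from (X.qz 0 ω 1).symm, cjs, q, hz] at k1
        exact τ_P ((mul_mem_cancel_right (X.q_P 0 1)).1 (k1 ▸ X.p_P ..))
    · have := τ_z (X := X) ω
      rw [a] at b
      have d := cjc k (n⁻¹ * X.p 1 0 ω * n⁻¹⁻¹ * X.q 0 ω) (X.q 0 ω)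
      rw [b, CX_Z hk, this, c, mul_assoc (X.q 0 ω), c, ← mul_assoc (X.q 0 ω), mul_assoc (X.q 0 ω), mul_assoc (X.q 0 ω),
        mul_inv_cancel, mul_one, CX_Z hk, q_eq] at d
      exact absurd d.2 (by decide)
  refine .inl fun n hn => ⟨fun a ha => (Qgen (U := cmz _ n) (fun i hi h => ⟨Q_H hi, ?_⟩) ha).2, ex n hn⟩
  obtain ⟨j, hj, q⟩ := h.tr (Q_S hi)
  convert conj_mem_of_mem_normalizer' (Hz hj.1) (cz _ (D1 _ (h3 j hj n hn)) (h1 (h3 j hj n hn)).1) using 1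
  rw [← q]; group

end Su

end H10.So
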