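import Cfsg.Agent.Lib.Std.SzM
import Cfsg.Agent.Lib.ON.RecM
import Cfsg.Agent.Lib.StdO.So5

/-! Standard subgroups `L₃(4)` with odd centre: the coordinates exist. -/

set_option autoImplicit false
set_option maxRecDepth 100000
set_option synthInstance.maxSize 100000

namespace H10.So
open H10.Sz H10.Sz.SzM
open H69 Subgroup Cfsg H87.Tb H87.Mx
open H30 (F4)
open H10.HeS (T2)
open H87.ONR (l actL WL gen_l cls2)
open H54 (evW xl gen invA evW_nil evW_cons evW_append gen_le)
open H15 (M21)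

theorem three {A : Type*} [Group A] [Finite A] (h : Nat.card A ∣ 3) (a b : A) : a = 1 ∨ b = 1 ∨ b = a ∨ b = a⁻¹ := by
  haveI := Fact.mk Nat.prime_three
  refine or_iff_not_imp_left.2 fun a1 => ?_
  have a3 : a ^ 3 = 1 := orderOf_dvd_iff_pow_eq_one.1 ((orderOf_dvd_natCard a).trans h)
  have o := orderOf_eq_prime a3 a1
  have : zpowers a = ⊤ := eq_top_of_card_eq _ (le_antisymm (card_le_card_group _) (by
    rw [Nat.card_zpowers, o]; exact Nat.le_of_dvd (by decide) h))
  obtain ⟨k, rfl⟩ := (mem_powers_iff_mem_zpowers.2 (this.ge (mem_top b)) :)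
  simp only [← pow_mod_orderOf a k, o]
  have : k % 3 < 3 := Nat.mod_lt _ (by decide)
  interval_cases k % 3
  exacts [.inl (pow_zero a), .inr (.inl (pow_one a)), .inr (.inr (eq_inv_of_mul_eq_one_left ((pow_succ a 2).symm.trans a3)))]

theorem exists_st {G : Type*} [Group G] [Finite G] {L : Subgroup G} (hL : IsStandardSubgroup L)
    (ho : Odd (Nat.card (center L))) (e : L ⧸ center L ≃* M21) : ∃ Y : St G, Y.L = L := by
  haveI := Fact.mk Nat.prime_two
  let π : L →* M21 := e.toMonoidHom.comp (QuotientGroup.mk' _)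
  have hk : π.ker = center L := by
    ext g
    simp [π, MonoidHom.mem_ker]
  have hs : Function.Surjective π := e.surjective.comp (QuotientGroup.mk'_surjective _)
  have pf := hL.1.1.commutator_eq_top
  have c3 : Nat.card (center L) ∣ 3 := by
    have := H78.Schur.card_ker_inf_dvd H87.ONR.schur21 π hs hk.le
    rw [pf, inf_top_eq, hk, show Nat.card (Multiplicative (ZMod 3 × ZMod 4 × ZMod 4)) = 2 ^ 4 * 3 by simp] at this
    exact ((Nat.coprime_two_right.2 ho).pow_right 4).dvd_of_dvd_mul_left this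
  have hK : ∀ b : L, (b : G) ∈ 𝐂(L) ↔ π b = 1 := fun b => by
    rw [← MonoidHom.mem_ker, hk, mem_center_iff]
    exact ⟨fun h a => Subtype.ext (h _ a.2), fun h a ha => congrArg Subtype.val (h ⟨a, ha⟩)⟩
  have z3 : ∀ b : L, π b = 1 → b ^ 3 = 1 := fun b h =>
    orderOf_dvd_iff_pow_eq_one.1 (((center L).orderOf_dvd_natCard (hk.le h)).trans c3)
  have cz : ∀ b : L, π b = 1 → ∀ a, a * b = b * a := fun b h => mem_center_iff.1 (hk.le h)
  have uq : ∀ {a b : L}, T2 a → T2 b → π a = π b → a = b := fun {a b} ta tb h => by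
    have k : π (b⁻¹ * a) = 1 := by simp [h]
    obtain ⟨n, t⟩ := (T2.inv tb).mul ta (by
      have := cz _ k a
      rw [← mul_assoc, mul_left_inj] at this
      exact this.symm)
    exact (inv_mul_eq_one.1 ((pow_eq_one_iff_of_coprime (Nat.Coprime.pow_left n (by decide : Nat.Coprime 2 3))).1
      ⟨t, z3 _ k⟩)).symm
  have ex : ∀ g : M21, ∃ a : L, π a = g ∧ (g ^ 4 = 1 → T2 a) := fun g => by
    obtain ⟨a, rfl⟩ := hs g
    by_cases h : π a ^ 4 = 1
    · refine ⟨a ^ 9, by rw [map_pow, show 9 = 4 * 2 + 1 from rfl, pow_succ, pow_mul, h, one_pow, one_mul], fun _ => ⟨2, ?_⟩⟩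
      rw [← pow_mul, show 9 * 2 ^ 2 = 4 * 3 * 3 from rfl, pow_mul, pow_mul, z3 (a ^ 4) (by rw [map_pow, h]), one_pow]
    · exact ⟨a, rfl, fun k => absurd k h⟩
  choose s hs1 hs2 using ex
  have p4 : ∀ x a e, X.p x a e ^ 4 = 1 := fun x a e => by rw [show 4 = 2 * 2 from rfl, pow_mul, sq, sq, X.p_sq, X.z_sq]
  have tp : ∀ x a e, T2 (s (X.p x a e)) := fun x a e => hs2 _ (p4 x a e)
  let P : Pm G := ⟨fun x a e => s (X.p x a e), fun x a e x' a' e' => congrArg Subtype.val (uq
    (t2_mul (Γ := X.T.comap π) (by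
      intro y ⟨x, a, e, k⟩
      exact ⟨2, fun u _ => cz _ (by rw [map_pow, k]; exact p4 ..) u⟩) (show π _ ∈ X.T from hs1 _ ▸ X.p_T ..)
      (show π _ ∈ X.T from hs1 _ ▸ X.p_T ..) (tp x a e) (tp x' a' e')) (tp ..) (by rw [map_mul, hs1, hs1, hs1, X.mul])),
    fun x a e h => X.inj x a e (by rw [← hs1 (X.p x a e), Subtype.ext (a1 := s _) (a2 := 1) h, map_one])⟩
  have cj : ∀ {r v w}, eq (cw r v) w = true → evW l v ^ 4 = 1 → evW l w ^ 4 = 1 →
      (s (evW l r) : G) * s (evW l v) * (s (evW l r) : G)⁻¹ = s (evW l w) := fun h a b =>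
    congrArg Subtype.val (uq ((hs2 _ a).conj _) (hs2 _ b) (by rw [map_mul, map_mul, map_inv, hs1, hs1, hs1, cc h]))
  have s2 : ∀ {r}, eq (r ++ r) [] = true → T2 (s (evW l r)) ∧ (s (evW l r) : G) * s (evW l r) = 1 := fun {r} h => by
    have a := (mm h).trans (evW_nil _)
    have t := hs2 (evW l r) (by rw [show 4 = 2 * 2 from rfl, pow_mul, sq (evW l r), a, one_pow])
    exact ⟨t, congrArg Subtype.val (uq (t.mul t rfl) (.of_sq (one_mul 1)) (by rw [map_mul, hs1, a, map_one]))⟩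
  have sup : ∀ M : Subgroup L, M.map π = ⊤ → M = ⊤ := fun M h => by
    refine eq_top_iff.2 (pf.ge.trans (commutator_le.2 fun a _ b _ => ?_))
    obtain ⟨a', ha, k⟩ := h.ge (mem_top (π a))
    obtain ⟨b', hb, k'⟩ := h.ge (mem_top (π b))
    have ca := cz (a'⁻¹ * a) (by simp [k])
    have cb := cz (b'⁻¹ * b) (by simp [k'])
    rw [← mul_inv_cancel_left a' a, ← mul_inv_cancel_left b' b, commutatorElement_def,
      cm_cen (ca a').symm (ca b').symm (cb a').symm (cb _)]
    exact mul_mem (mul_mem (mul_mem ha hb) (inv_mem ha)) (inv_mem hb)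
  have := H15.isSimple_M21
  refine ⟨⟨P, L, hL, fun M h1 h2 => ?_, fun b hb h => ?_, fun y hy b hb h => ?_, fun _ _ _ => (s _).2,
    s (evW l wh), (s _).2, ?_, fun x a e => cj (c_h x a e) (p4 ..) (p4 ..),
    s (evW l wn), (s _).2, (s2 (by decide +kernel)).2, fun x e => cj (c_n x e) (p4 ..) (p4 ..),
    s (evW l wm), (s _).2, (s2 (by decide +kernel)).2, fun a e => cj (c_m a e) (p4 ..) (p4 ..),
    fun b hb h2 h1 => ?_, fun b hb h => ?_, fun y hy A => ?_, fun M hT h1 h2 h3 b hb => ?_⟩, rfl⟩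
  · haveI : (M.subgroupOf L).Normal := ⟨fun n hn g => conj_mem_of_mem_normalizer (A := M) (h2 g.2) hn⟩
    refine ((Normal.map this π hs).eq_bot_or_eq_top).imp (fun k b hb => ?_) fun k => le_antisymm h1 fun b hb => ?_
    · exact (hK ⟨b, h1 hb⟩).2 (mem_bot.1 (k.le (mem_map_of_mem π (show (⟨b, h1 hb⟩ : L) ∈ M.subgroupOf L from hb))))
    · exact (sup _ k).ge (mem_top (⟨b, hb⟩ : L))
  · rw [mul_assoc, ← pow_three]; exact congrArg Subtype.val (z3 ⟨b, hb⟩ ((hK _).1 h))
  · have hb' := conj_mem_of_mem_normalizer hy hb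
    rcases three c3 ⟨⟨b, hb⟩, hk.le ((hK _).1 h)⟩ ⟨⟨_, hb'⟩, hk.le ((hK _).1
      (conj_mem_of_mem_normalizer (normalizer_le_normalizer_centralizer _ hy) h))⟩ with k | k | k | k <;>
      replace k := congrArg (fun u => (u.1 : G)) k
    · obtain rfl : b = 1 := k
      simp
    · obtain rfl : b = 1 := conj_eq_one_iff.1 k
      simp
    exacts [.inl k, .inr k]
  · have a : π (s (evW l wh) ^ 3) = 1 := by
      rw [map_pow, hs1, pow_three, ← evW_append, mm (w := []) (by decide +kernel), evW_nil]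
    have b : π (s (evW l wh) * (s (evW l wn) * s (evW l wh) * (s (evW l wn))⁻¹)) = 1 := by
      rw [map_mul, map_mul, map_mul, map_inv, hs1, hs1, ← ecw, mm (w := []) (by decide +kernel), evW_nil]
    have c := z3 _ b
    rw [Commute.mul_pow (by have := cz _ b (s (evW l wh)); rwa [mul_assoc (s _) _ (s _), mul_right_inj] at this),
      conj_pow, cz _ a, mul_inv_cancel_right, ← sq] at c
    rw [mul_assoc, ← pow_three]
    exact congrArg Subtype.val ((pow_eq_one_iff_of_coprime (by decide : Nat.Coprime 2 3)).1 ⟨c, z3 _ a⟩)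
  · lift b to L using hb
    have t : T2 b := .of_sq (Subtype.ext h2)
    obtain ⟨-, k, q⟩ := cls2 (g := π b) (orderOf_eq_prime (by rw [sq, ← map_mul, Subtype.ext (a1 := b * b) (a2 := 1) h2,
      map_one]) fun e => h1 (congrArg Subtype.val (uq t (.of_sq (one_mul 1)) (e.trans (map_one π).symm))))
    exact ⟨s k, (s k).2, congrArg Subtype.val (uq ((tp 0 0 1).conj _) t (by
      rw [map_mul, map_mul, map_inv, hs1, hs1, X_z, q]))⟩
  · lift b to L using hb
    obtain ⟨x, a, e, k⟩ := cen (g := π b) (by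
      rw [← X_z, ← hs1 (X.p 0 0 1), ← map_mul, ← map_mul]; exact congrArg π (Subtype.ext h))
    exact ⟨_, P.p_T x a e, (hK ((s _)⁻¹ * b)).2 (by rw [map_mul, map_inv, hs1, k, inv_mul_cancel])⟩
  · let α := L.normalizerMonoidHom ⟨y, hy⟩
    have hα : ∀ b : L, ((α b : L) : G) = y * b * y⁻¹ := fun b => rfl
    let γ : M21 ≃* M21 := e.symm.trans ((QuotientGroup.congr _ _ α (characteristic_iff_map_eq.1 inferInstance α)).trans e)
    have hγ : ∀ b, γ (π b) = π (α b) := fun b => by simp [γ, π]; rfl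
    clear_value α γ
    have k : ∀ {g g'}, y * s g * y⁻¹ = s g' → γ g = g' := fun {g g'} h => by
      rw [← hs1 g, hγ, Subtype.ext (a1 := α _) (a2 := s g') ((hα _).trans h), hs1]
    obtain ⟨_, ⟨x, a, e, rfl⟩, q⟩ := aut γ (X_z ▸ k (A.triv.2 1)) fun x => (A.triv.1 x 0 0).imp fun _ => k
    refine ⟨_, P.p_T x a e, fun b hb => ?_⟩
    let β : L ≃* L := α.trans (MulAut.conj (s (X.p x a e))⁻¹)
    have hβ : ∀ b, π (β b * b⁻¹) = 1 := fun b => by
      rw [show β b = (s (X.p x a e))⁻¹ * α b * (s (X.p x a e))⁻¹⁻¹ from rfl]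
      simp only [map_mul, map_inv, ← hγ, q, hs1]; group
    have : β ⟨b, hb⟩ = ⟨b, hb⟩ := (commutator_le (H₃ := β.toMonoidHom.eqLocus (MonoidHom.id _))).2 (fun a _ b _ => by
      show β _ = _
      rw [map_commutatorElement, commutatorElement_def, commutatorElement_def, ← inv_mul_cancel_right (β a) a,
        ← inv_mul_cancel_right (β b) b, ← cz _ (hβ a), ← cz _ (hβ b)]
      exact cm_cen (cz _ (hβ a) _).symm (cz _ (hβ a) _).symm (cz _ (hβ b) _).symm (cz _ (hβ b) _)) (pf.ge (mem_top _))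
    have := congrArg Subtype.val this
    simp only [β, MulEquiv.trans_apply, MulAut.conj_apply, coe_mul, coe_inv, hα] at this
    change b * (((s (X.p x a e) : L) : G)⁻¹ * y) = ((s (X.p x a e) : L) : G)⁻¹ * y * b
    nth_rewrite 1 [← this]
    group
  · refine (sup (M.subgroupOf L) (eq_top_iff.2 (gen_l ▸ gen_le fun i hi => ?_))).ge (mem_top (⟨b, hb⟩ : L))
    have m : ∀ {g}, (s g : G) ∈ M → g ∈ (M.subgroupOf L).map π := fun {g} h => ⟨s g, h, hs1 g⟩
    interval_cases i
    · exact X_z ▸ m (hT (P.p_T 0 0 1))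
    · have := WL.eq (v := [2]) (w := wp 1 0 ω ++ wh ++ wn ++ wm ++ wn ++ wp ϖ ϖ 1) (by decide +kernel)
      rw [show evW l [2] = l 1 by simp [xl]] at this
      rw [this]
      simp only [evW_append _ _ wh, evW_append _ _ wn, evW_append _ _ wm, evW_append _ _ (wp ..)]
      exact mul_mem (mul_mem (mul_mem (mul_mem (mul_mem (m (hT (P.p_T 1 0 ω))) (m h1)) (m h2)) (m h3)) (m h2))
        (m (hT (P.p_T ϖ ϖ 1)))

end H10.So
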